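import Groth.Agent.Lib.SmCurveFam.CanonicalSection
import Groth.Agent.Lib.Jets.ZeroIdeal
import Groth.Agent.Lib.VA.Tensor
import Groth.Agent.Lib.OX.LocalLift
import Groth.Prelude.Def_BlowUp2
import Groth.Prelude.Def_CurvBase

/-!
# The divisor of a section of an invertible module
-/

set_option autoImplicit false
set_option linter.all false
set_option backward.isDefEq.respectTransparency false
set_option maxHeartbeats 1000000

universe u

open CategoryTheory CategoryTheory.Limits AlgebraicGeometry TopologicalSpace Opposite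
open GrothLib.InvExt (mres fres IsGen)
open GrothLib.IdealModSec

noncomputable section

namespace GrothLib.EllGroup15

open GrothLib.SmCurveFam

variable {X : Scheme.{u}}

theorem secVal_ofTop {L : X.Modules} (s : Γ(L, ⊤)) (W : X.Opens) :
    (show Γ(L, W) from PicF2.secVal L (OX.ofTop (N := L) s) W) = mres L (le_top : W ≤ ⊤) s := by
  rw [Mero.Zero.secVal_eq_mres]
  congr 1
  exact OX.ofTop_app_top (N := L) s

/-- The zero scheme has the section as canonical section. -/
theorem isCanSec_zeroScheme {L : X.Modules} (hL : PicF.IsInvertible L) (s : Γ(L, ⊤)) :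
    IsCanSec (PicF2.zeroScheme L (OX.ofTop (N := L) s)) L s := fun p => by
  obtain ⟨V, e, hpV, he⟩ := InvExt.exists_gen_nhd hL p
  obtain ⟨T, hpT, hT⟩ := GrothLib.BlowUp.exists_affine_mem_le hpV
  have heT := he.restrict hT
  obtain ⟨r, hr⟩ := heT.exists_smul_eq le_rfl (mres L (le_top : T.1 ≤ ⊤) s)
  rw [InvExt.mres_self] at hr
  exact ⟨T, mres L hT e, r, hpT, heT, hr,
    Jets.zeroScheme_ideal_gen hL _ T heT ((secVal_ofTop s T.1).trans hr)⟩

/-- Near every point a canonical section is a generator times a generator of the ideal. -/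
theorem exists_pair {I : X.IdealSheafData} (hI : _root_.BlowUp.IsEffCartierIdeal I) {L : X.Modules}
    {s : Γ(L, ⊤)} (hs : IsCanSec I L s) (p : X) :
    ∃ (D : X.Opens) (e : Γ(L, D)) (m : Γ(ClSub.idealMod I, D)), p ∈ D ∧ IsGen L D e ∧
      IsGen (ClSub.idealMod I) D m ∧ mres L (le_top : D ≤ ⊤) s = val I D m • e := by
  obtain ⟨T, e, r, hpT, he, hr, hIT⟩ := hs p
  obtain ⟨V, m₀, hpV, hm₀⟩ := InvExt.exists_gen_nhd (isInvertible_of_isEffCartier hI) p
  obtain ⟨D, hpD, hD⟩ := GrothLib.BlowUp.exists_affine_mem_le (W := T.1 ⊓ V) (x := p) ⟨hpT, hpV⟩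
  have hDT : D.1 ≤ T.1 := hD.trans inf_le_left
  have hDV : D.1 ≤ V := hD.trans inf_le_right
  let m := mres (ClSub.idealMod I) hDV m₀
  have hm : IsGen (ClSub.idealMod I) D.1 m := hm₀.restrict hDV
  have hID : I.ideal D = Ideal.span {fres X hDT r} := by
    rw [← I.map_ideal (U := D) (V := T) hDT, hIT, Ideal.map_span, Set.image_singleton]
    rfl
  obtain ⟨a, ha⟩ : ∃ a, a * val I D.1 m = fres X hDT r := by
    obtain ⟨k, hk⟩ := exists_val_eq I D (a := fres X hDT r) (by rw [hID]; exact Ideal.mem_span_singleton_self _)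
    obtain ⟨a, ha⟩ := hm.exists_smul_eq le_rfl k
    rw [InvExt.mres_self] at ha
    exact ⟨a, by rw [← hk, ha, val_smul]⟩
  obtain ⟨b, hb⟩ : ∃ b, b * fres X hDT r = val I D.1 m := by
    have h1 := val_mem I D m
    rw [hID] at h1
    exact Ideal.mem_span_singleton'.1 h1
  have hab : b * a = 1 := hm.smul_left_injective le_rfl (by
    rw [InvExt.mres_self, one_smul]
    refine val_injective I D.1 ?_
    rw [val_smul, mul_assoc, ha, hb])
  refine ⟨D.1, a • mres L hDT e, m, hpD, (he.restrict hDT).smul_unit (IsUnit.of_mul_eq_one_right b hab), hm, ?_⟩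
  rw [← InvExt.mres_mres L (le_top : T.1 ≤ ⊤) hDT s, hr, InvExt.mres_smul, smul_smul, mul_comm, ha]

/-- A bundle with a canonical section is inverse to the ideal. -/
theorem isInverseOf_of_isCanSec {I : X.IdealSheafData} (hI : _root_.BlowUp.IsEffCartierIdeal I) {L : X.Modules}
    {s : Γ(L, ⊤)} (hs : IsCanSec I L s) : ClSub.IsInverseOf L (ClSub.idealMod I) := by
  choose D e m hpD he hm hse using exists_pair hI hs
  let M := ClSub.idealMod I
  let N := CohB1.tensorMod L M
  obtain ⟨t, ht⟩ := InvExt.exists_gen_of_glue (M := N) D (fun p => VA.tm (e p) (m p))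
    (fun p => VA.isGen_tm (he p) (hm p)) (fun p q => by
      let W := D p ⊓ D q
      have hp : W ≤ D p := inf_le_left
      have hq : W ≤ D q := inf_le_right
      obtain ⟨g, hg⟩ := (he p).exists_smul_eq hp (mres L hq (e q))
      obtain ⟨h, hh⟩ := (hm p).exists_smul_eq hp (mres M hq (m q))
      have h1 : fres X hp (val I (D p) (m p)) • mres L hp (e p) = fres X hq (val I (D q) (m q)) • mres L hq (e q) := by
        rw [← InvExt.mres_smul, ← InvExt.mres_smul, ← hse p, ← hse q, InvExt.mres_mres, InvExt.mres_mres]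
      have h2 : fres X hp (val I (D p) (m p)) = fres X hq (val I (D q) (m q)) * g :=
        (he p).smul_left_injective hp (by rw [h1, hg, smul_smul])
      rw [← val_mres I hq (m q), hh, val_smul, val_mres] at h2
      have h3 : g * h = 1 := (hm p).smul_left_injective hp (by
        rw [one_smul]
        refine val_injective I W ?_
        rw [val_smul, val_mres]
        linear_combination -h2)
      rw [VA.mres_tm, VA.mres_tm, hg, hh, VA.tm_smul_left, VA.tm_smul_right, smul_smul, h3, one_smul]) ⊤
    (fun p => le_top) (fun p _ => Opens.mem_iSup.2 ⟨p, hpD p⟩)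
  haveI : IsIso (OX.ofTop (N := N) t) := Scheme.Modules.Hom.isIso_iff_isIso_app.2 fun W => by
    refine (ConcreteCategory.isIso_iff_bijective _).2 ?_
    have hfun : ∀ b : Γ(X, W), (OX.ofTop (N := N) t).app W b = b • mres N (le_top : W ≤ ⊤) t := fun b =>
      (Mero.Zero.app_eq_smul_secVal N (OX.ofTop (N := N) t) W b).trans (congrArg (b • ·) (secVal_ofTop t W))
    refine ⟨fun a b hab => ht.smul_left_injective le_top ?_, fun n => ?_⟩
    · exact (hfun a).symm.trans (hab.trans (hfun b))
    · obtain ⟨b, hb⟩ := ht.exists_smul_eq le_top n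
      exact ⟨b, (hfun b).trans hb.symm⟩
  exact ⟨(asIso (OX.ofTop (N := N) t)).symm⟩

/-- The zero scheme is locally principal. -/
theorem isLocPrincipal_zeroScheme {L : X.Modules} (hL : PicF.IsInvertible L) (s : Γ(L, ⊤)) :
    Curv2.IsLocPrincipal (PicF2.zeroScheme L (OX.ofTop (N := L) s)) := fun p _ => by
  obtain ⟨T, e, r, hpT, -, -, hIT⟩ := isCanSec_zeroScheme hL s p
  exact ⟨T, hpT, r, hIT⟩

end GrothLib.EllGroup15
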