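import Groth.Agent.Lib.EllGroup15.Group
import Groth.Agent.Lib.SmCurveFam.AbelMap
import Groth.Agent.Lib.FGAInt26.AlgEquiv
import Groth.Agent.Lib.PicSep26.Separated
import Groth.Prelude.Def_AbDual
import Mathlib.AlgebraicGeometry.Sites.Fpqc

/-!
# The Abel map of a family of curves of genus one onto `Pic⁰` is an isomorphism
-/

set_option autoImplicit false
set_option linter.all false
set_option backward.isDefEq.respectTransparency false
set_option maxHeartbeats 2000000

universe u

open CategoryTheory CategoryTheory.Limits AlgebraicGeometry Opposite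
open GrothLib.Cube (Pic clsMod pull HasCls)

noncomputable section

namespace GrothLib.EllGroup15

open GrothLib.SmCurveFam

section Deg

variable {E S : Scheme.{u}} {f : E ⟶ S}

theorem fdeg_mul (h : IsGenusOne f) {L M N : E.Modules} (hL : PicF.IsInvertible L) (hM : PicF.IsInvertible M)
    (hN : PicF.IsInvertible N) (hc : clsMod hN = clsMod hL * clsMod hM) (y : S) :
    fdeg f N y = fdeg f L y + fdeg f M y := by
  haveI := h.proper
  haveI := h.smooth
  haveI := h.conn
  obtain ⟨h1, h2, h3, -⟩ := fiber_props f y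
  letI : (f.fiber y).Over (Spec (CommRingCat.of (S.residueField y))) := ⟨f.fiberToSpecResidueField y⟩
  haveI : IsProper (f.fiber y ↘ Spec (CommRingCat.of (S.residueField y))) := h1
  haveI : Smooth (f.fiber y ↘ Spec (CommRingCat.of (S.residueField y))) := h2
  haveI : GeometricallyConnected (f.fiber y ↘ Spec (CommRingCat.of (S.residueField y))) := h3
  haveI := (CurveMult.OmegaField.integral_and_h0 (S.residueField y) (f.fiber y)).1
  let r := fun {M : E.Modules} (hM : PicF.IsInvertible M) => Ample.isInvertible_pullback (f.fiberι y) hM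
  obtain ⟨i⟩ : Nonempty (CohIII.fiberMod f N y ≅ CohB1.tensorMod (CohIII.fiberMod f L y) (CohIII.fiberMod f M y)) := by
    refine (Cube.clsMod_eq_iff (r hN) (Ample.isInvertible_tensorMod (r hL) (r hM))).1 ?_
    rw [Cube.clsMod_tensorMod (r hL) (r hM), Cube.clsMod_pullback _ hN, Cube.clsMod_pullback _ hL,
      Cube.clsMod_pullback _ hM, ← map_mul, hc]
  show Curv2.deg (S.residueField y) (f.fiber y) (CohIII.fiberMod f N y) 1 = _
  rw [Euler.deg_of_iso (S.residueField y) i, CurveMult.deg_tensorMod (S.residueField y) (h.dim y).le (r hL) (r hM)]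
  rfl

theorem fdeg_inv_secCl (h : IsGenusOne f) (x : S ⟶ E) (hx : x ≫ f = 𝟙 S) {L : E.Modules}
    (hL : PicF.IsInvertible L) (hc : clsMod hL = (secCl h x hx)⁻¹) (y : S) : fdeg f L y = 1 := by
  haveI := h.proper
  haveI := h.smooth
  haveI := h.conn
  exact deg_fibre_eq_one f h.dim x hx (h.isInvertible_ideal x hx) hL
    ((Cube.clsMod_eq_one_iff (Ample.isInvertible_tensorMod hL (h.isInvertible_ideal x hx))).1 (by
      rw [Cube.clsMod_tensorMod hL (h.isInvertible_ideal x hx), hc, secCl, inv_mul_cancel])) y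

/-- A module algebraically trivial on the geometric fibres has fibre degree zero. -/
theorem fdeg_zero_of_algTrivial (h : IsGenusOne f) {L : E.Modules} (hL : PicF.IsInvertible L) (y : S)
    (ha : AbDual.IsAlgTrivialAt f L y) : fdeg f L y = 0 := by
  haveI := h.proper
  let κ := S.residueField y
  let Ω := AlgebraicClosure κ
  let φ : κ →+* Ω := algebraMap κ Ω
  let σ : Spec (CommRingCat.of Ω) ⟶ S := Spec.map (CommRingCat.ofHom φ) ≫ S.fromSpecResidueField y
  have hσ : Set.range σ.base = {y} := by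
    refine Set.eq_singleton_iff_nonempty_unique_mem.2 ⟨Set.range_nonempty _, ?_⟩
    rintro _ ⟨p, rfl⟩
    simp only [σ, Scheme.Hom.comp_base, TopCat.coe_comp, Function.comp_apply]
    have := Set.mem_range_self (f := (S.fromSpecResidueField y).base) ((Spec.map (CommRingCat.ofHom φ)).base p)
    rwa [Scheme.range_fromSpecResidueField, Set.mem_singleton_iff] at this
  have halg := ha Ω σ hσ
  let i : pullback f σ ⟶ f.fiber y := pullback.lift (pullback.fst f σ)
    (pullback.snd f σ ≫ Spec.map (CommRingCat.ofHom φ)) (by rw [pullback.condition, Category.assoc])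
  have H : IsPullback i (pullback.snd f σ) (f.fiberToSpecResidueField y) (Spec.map (CommRingCat.ofHom φ)) := by
    refine IsPullback.of_right ?_ (pullback.lift_snd _ _ _) (IsPullback.of_hasPullback f (S.fromSpecResidueField y))
    rw [show i ≫ pullback.fst f (S.fromSpecResidueField y) = pullback.fst f σ from pullback.lift_fst _ _ _]
    exact IsPullback.of_hasPullback f σ
  letI : (pullback f σ).Over (Spec (CommRingCat.of Ω)) := ⟨pullback.snd f σ⟩
  haveI : IsProper ((pullback f σ) ↘ Spec (CommRingCat.of Ω)) :=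
    inferInstanceAs (IsProper (pullback.snd f σ))
  haveI : IsProper (f.fiberToSpecResidueField y) := inferInstanceAs (IsProper (pullback.snd f _))
  let L₀ := CohIII.fiberMod f L y
  have hL₀ : PicF.IsInvertible L₀ := Ample.isInvertible_pullback _ hL
  let L' := (Scheme.Modules.pullback (pullback.fst f σ)).obj L
  have hL' : PicF.IsInvertible L' := Ample.isInvertible_pullback _ hL
  haveI := InvExt.isQuasicoherent_of_isInvertible hL₀
  haveI : (Coh.structureModule (f.fiber y)).IsQuasicoherent :=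
    InvExt.isQuasicoherent_of_isInvertible Euler.isInvertible_structure
  haveI := Euler.isNoetherian_of_proper (X := pullback f σ) Ω
  have hO : Coh.IsCoh (Coh.structureModule (pullback f σ)) :=
    Euler.isCoh_of_isInvertible Euler.isInvertible_structure
  have h1 := FGAInt26.euler_algEquiv Ω halg hO
  obtain ⟨e1⟩ : Nonempty ((Euler.tF L').obj (Coh.structureModule (pullback f σ)) ≅ L') := by
    show Nonempty (CohB1.tensorMod (Coh.structureModule (pullback f σ)) L' ≅ L')
    refine (Cube.clsMod_eq_iff (Ample.isInvertible_tensorMod Euler.isInvertible_structure hL') hL').1 ?_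
    rw [Cube.clsMod_tensorMod Euler.isInvertible_structure hL',
      (Cube.clsMod_eq_one_iff Euler.isInvertible_structure).2 ⟨Iso.refl _⟩, one_mul]
  rw [Euler.euler_of_iso Ω e1] at h1
  have h2 := EulerConst10.euler_isPullback φ (f.fiberToSpecResidueField y) (pullback.snd f σ) i H L₀
  have h3 := EulerConst10.euler_isPullback φ (f.fiberToSpecResidueField y) (pullback.snd f σ) i H
    (Coh.structureModule (f.fiber y))
  letI : (f.fiber y).Over (Spec (CommRingCat.of κ)) := ⟨f.fiberToSpecResidueField y⟩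
  obtain ⟨e2⟩ := Ample.nonempty_pullback_structureModule i
  rw [Euler.euler_of_iso Ω e2] at h3
  let e3 : (Scheme.Modules.pullback i).obj L₀ ≅ L' := (Scheme.Modules.pullbackComp i (f.fiberι y)).app L ≪≫
    (Scheme.Modules.pullbackCongr (pullback.lift_fst _ _ _ : i ≫ f.fiberι y = pullback.fst f σ)).app L
  rw [Euler.euler_of_iso Ω e3] at h2
  show Curv2.euler κ (f.fiber y) L₀ - (1 : ℕ) * Curv2.euler κ (f.fiber y) (Coh.structureModule (f.fiber y)) = 0
  rw [← h2, ← h3, h1, Nat.cast_one, one_mul, sub_self]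

end Deg

section AlgEquiv

/-- On a curve of genus one over a field, `O(x - o)` is algebraically equivalent to zero. -/
theorem isAlgEquivZero_diff {Ω : Type u} [Field Ω] {X : Scheme.{u}} (g : X ⟶ Spec (CommRingCat.of Ω))
    (h : IsGenusOne g) (x o : Spec (CommRingCat.of Ω) ⟶ X) (hx : x ≫ g = 𝟙 _) (ho : o ≫ g = 𝟙 _)
    {L : X.Modules} (hL : PicF.IsInvertible L) (hc : clsMod hL = secCl h o ho * (secCl h x hx)⁻¹) :
    @Pic13.IsAlgEquivZero Ω _ X ⟨g⟩ L := by
  letI : X.Over (Spec (CommRingCat.of Ω)) := ⟨g⟩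
  haveI := h.proper
  haveI := h.smooth
  haveI := h.conn
  haveI : IsProper (X ↘ Spec (CommRingCat.of Ω)) := h.proper
  haveI : Smooth (X ↘ Spec (CommRingCat.of Ω)) := h.smooth
  haveI : GeometricallyConnected (X ↘ Spec (CommRingCat.of Ω)) := h.conn
  haveI := (CurveMult.OmegaField.integral_and_h0 Ω X).1
  let T : Over (Spec (CommRingCat.of Ω)) := Over.mk g
  let P : T ⟶ Over.mk g := 𝟙 _
  let c : Pic (PicF.XT g T) := secCl (hypsT h T) (PicF.secT g o ho T) (pullback.lift_snd _ _ _) *
    (secCl (hypsT h T) (graph P) (graph_snd P))⁻¹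
  obtain ⟨hM, hMc⟩ := Dual.hasCls_rep c
  let sl : ∀ (t : Spec (CommRingCat.of Ω) ⟶ X) (ht : t ≫ g = 𝟙 _), X ⟶ PicF.XT g T := fun t ht =>
    Pic13.sliceAt Ω X g t ht
  have key : ∀ (t : Spec (CommRingCat.of Ω) ⟶ X) (ht : t ≫ g = 𝟙 _),
      pull (sl t ht) c = secCl h o ho * (secCl h t ht)⁻¹ := fun t ht => by
    have s1 : sl t ht ≫ pullback.fst g g = 𝟙 X := pullback.lift_fst _ _ _
    have s2 : sl t ht ≫ pullback.snd g g = g ≫ t := pullback.lift_snd _ _ _
    have hsq : IsPullback (sl t ht) g (PicF.XTproj g T) t := by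
      refine IsPullback.of_right ?_ s2 (IsPullback.of_hasPullback g g)
      rw [s1, ht]
      exact IsPullback.of_horiz_isIso ⟨by simp⟩
    have hP : t ≫ sl t ht = t ≫ graph P := by
      refine pullback.hom_ext ?_ ?_
      · show (t ≫ sl t ht) ≫ pullback.fst g g = (t ≫ graph P) ≫ pullback.fst g g
        rw [Category.assoc, Category.assoc, s1, show graph P ≫ pullback.fst g g = 𝟙 X from pullback.lift_fst _ _ _]
      · show (t ≫ sl t ht) ≫ pullback.snd g g = (t ≫ graph P) ≫ pullback.snd g g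
        rw [Category.assoc, Category.assoc, s2, reassoc_of% ht,
          show graph P ≫ pullback.snd g g = 𝟙 X from pullback.lift_snd _ _ _]
        exact (Category.comp_id _).symm
    have hO : o ≫ sl t ht = t ≫ PicF.secT g o ho T := by
      refine pullback.hom_ext ?_ ?_
      · show (o ≫ sl t ht) ≫ pullback.fst g g = (t ≫ PicF.secT g o ho T) ≫ pullback.fst g g
        rw [Category.assoc, Category.assoc, s1,
          show PicF.secT g o ho T ≫ pullback.fst g g = g ≫ o from pullback.lift_fst _ _ _, reassoc_of% ht]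
        exact Category.comp_id _
      · show (o ≫ sl t ht) ≫ pullback.snd g g = (t ≫ PicF.secT g o ho T) ≫ pullback.snd g g
        rw [Category.assoc, Category.assoc, s2, reassoc_of% ho,
          show PicF.secT g o ho T ≫ pullback.snd g g = 𝟙 X from pullback.lift_snd _ _ _]
        exact (Category.comp_id _).symm
    rw [map_mul, map_inv, pull_secCl (hypsT h T) hsq _ _ o ho hO, pull_secCl (hypsT h T) hsq _ _ t ht hP]
  refine ⟨X, g, inferInstance, inferInstance, inferInstance, Dual.rep c, hM, x, o, hx, ho, ?_, ?_⟩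
  · refine (Cube.clsMod_eq_iff (Ample.isInvertible_pullback (sl x hx) hM) hL).1 ?_
    rw [Cube.clsMod_pullback _ hM, hMc, key, hc]
  · refine (Cube.clsMod_eq_one_iff (Ample.isInvertible_pullback (sl o ho) hM)).1 ?_
    rw [Cube.clsMod_pullback _ hM, hMc, key, mul_inv_cancel]

end AlgEquiv

section Abel

variable {E S : Scheme.{u}} {f : E ⟶ S} (σ : S ⟶ E) (hσ : σ ≫ f = 𝟙 S) (hf : IsGenusOne f)

/-- The class `O(P - σ)`. -/
def thetaRep {T : Over S} (P : T ⟶ Over.mk f) : Pic (PicF.XT f T) :=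
  secCl (hypsT hf T) (PicF.secT f σ hσ T) (pullback.lift_snd _ _ _) *
    (secCl (hypsT hf T) (graph P) (graph_snd P))⁻¹

theorem pull_thetaRep {T T' : Over S} (g : T' ⟶ T) (P : T ⟶ Over.mk f) :
    pull (PicF.XTmap f g) (thetaRep σ hσ hf P) = thetaRep σ hσ hf (g ≫ P) := by
  have m1 : PicF.XTmap f g ≫ pullback.fst f T.hom = pullback.fst f T'.hom :=
    (pullback.lift_fst _ _ _).trans (Category.comp_id _)
  have m2 : PicF.XTmap f g ≫ pullback.snd f T.hom = pullback.snd f T'.hom ≫ g.left := pullback.lift_snd _ _ _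
  have hgr : graph (g ≫ P) ≫ PicF.XTmap f g = g.left ≫ graph P := by
    refine pullback.hom_ext ?_ ?_
    · rw [Category.assoc, Category.assoc, m1]
      simp [graph]
    · rw [Category.assoc, Category.assoc, m2]
      simp [graph]
      exact Category.id_comp _
  have hsec : PicF.secT f σ hσ T' ≫ PicF.XTmap f g = g.left ≫ PicF.secT f σ hσ T := by
    refine pullback.hom_ext ?_ ?_
    · rw [Category.assoc, Category.assoc, m1]
      simp [PicF.secT]
    · rw [Category.assoc, Category.assoc, m2]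
      simp [PicF.secT]
      exact Category.id_comp _
  rw [thetaRep, thetaRep, map_mul, map_inv,
    pull_secCl (hypsT hf T) (PicSep26.isPullback_XTmap f g) _ _ (graph (g ≫ P)) (graph_snd _) hgr,
    pull_secCl (hypsT hf T) (PicSep26.isPullback_XTmap f g) _ _ (PicF.secT f σ hσ T') (pullback.lift_snd _ _ _) hsec]

include σ hσ hf in
/-- `O(P - σ)` is in `Pic⁰`. -/
theorem isPicZeroCl_thetaRep {T : Over S} (P : T ⟶ Over.mk f) {L : (PicF.XT f T).Modules}
    (hL : PicF.IsInvertible L) (hc : clsMod hL = thetaRep σ hσ hf P) :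
    AbDual.IsPicZeroCl f T (PicF.cl L) := by
  refine ⟨L, rfl, hL, fun t Ω _ _ ρ _ => ?_⟩
  let p := PicF.XTproj f T
  have hsq : IsPullback (pullback.fst p ρ) (pullback.snd p ρ) p ρ := IsPullback.of_hasPullback _ _
  have h' := (hypsT hf T).baseChange hsq
  let x := graph P
  let o := PicF.secT f σ hσ T
  have hx : x ≫ p = 𝟙 _ := graph_snd P
  have ho : o ≫ p = 𝟙 _ := pullback.lift_snd _ _ _
  let x' : Spec (CommRingCat.of Ω) ⟶ pullback p ρ := pullback.lift (ρ ≫ x) (𝟙 _) (by
    rw [Category.assoc, hx, Category.comp_id, Category.id_comp])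
  let o' : Spec (CommRingCat.of Ω) ⟶ pullback p ρ := pullback.lift (ρ ≫ o) (𝟙 _) (by
    rw [Category.assoc, ho, Category.comp_id, Category.id_comp])
  refine isAlgEquivZero_diff (pullback.snd p ρ) h' x' o' (pullback.lift_snd _ _ _) (pullback.lift_snd _ _ _)
    (Ample.isInvertible_pullback _ hL) ?_
  rw [Cube.clsMod_pullback _ hL, hc, thetaRep, map_mul, map_inv,
    pull_secCl (hypsT hf T) hsq o ho o' (pullback.lift_snd _ _ _) (pullback.lift_fst _ _ _),
    pull_secCl (hypsT hf T) hsq x hx x' (pullback.lift_snd _ _ _) (pullback.lift_fst _ _ _)]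

variable (P₀ : Over S) (φ₀ : ∀ T : Over S, PicF.Cl (PicF.XT f T) → (T ⟶ P₀))
  (hP₀ : AbDual.IsRelPicZeroK Scheme.fppfPrecoverage f P₀ φ₀)

include hP₀ in
/-- The point of a class does not change under a twist from the base. -/
theorem phi_twist {T : Over S} {L M : (PicF.XT f T).Modules} (hL : PicF.IsInvertible L) (hM : PicF.IsInvertible M)
    (hL0 : AbDual.IsPicZeroCl f T (PicF.cl L)) (hM0 : AbDual.IsPicZeroCl f T (PicF.cl M))
    (n : Pic T.left) (h : clsMod hL = clsMod hM * pull (PicF.XTproj f T) n) :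
    φ₀ T (PicF.cl L) = φ₀ T (PicF.cl M) := by
  obtain ⟨hN, hNc⟩ := Dual.hasCls_rep n
  choose U hU htriv using id hN
  have hsup : iSup U = ⊤ := eq_top_iff.2 fun t _ => TopologicalSpace.Opens.mem_iSup.2 ⟨t, hU t⟩
  apply Over.OverMorphism.ext
  refine (T.left.openCoverOfIsOpenCover U hsup).hom_ext _ _ fun (t : T.left) => ?_
  let v : (U t : Scheme.{u}) ⟶ T.left := (U t).ι
  have hn : pull v n = 1 := by
    rw [← hNc, ← Cube.clsMod_pullback v]
    obtain ⟨i⟩ := htriv t
    exact (Cube.clsMod_eq_one_iff _).2 ⟨((Scheme.Modules.restrictFunctorIsoPullback _).app _).symm ≪≫ i⟩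
  let ψ := AbDual.ovrHom T v
  have hcls : PicF.pullCl (PicF.XTmap f ψ) (PicF.cl L) = PicF.pullCl (PicF.XTmap f ψ) (PicF.cl M) := by
    refine PicSep26.cl_eq_iff.2 ((Cube.clsMod_eq_iff (Ample.isInvertible_pullback _ hL)
      (Ample.isInvertible_pullback _ hM)).1 ?_)
    rw [Cube.clsMod_pullback _ hL, Cube.clsMod_pullback _ hM, h, map_mul, Cube.pull_comp,
      show PicF.XTmap f ψ ≫ PicF.XTproj f T = PicF.XTproj f (AbDual.ovr T v) ≫ v from pullback.lift_snd _ _ _,
      ← Cube.pull_comp]
    exact (congrArg (fun z => _ * pull (PicF.XTproj f (AbDual.ovr T v)) z) hn).trans (by rw [map_one, mul_one])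
  have e := congrArg (φ₀ (AbDual.ovr T v)) hcls
  rw [hP₀.natural _ _ ψ _ hL0, hP₀.natural _ _ ψ _ hM0] at e
  exact congrArg CommaMorphism.left e

variable {σ hσ}

include hf hP₀ σ hσ in
/-- **The Abel map onto `Pic⁰` is an isomorphism.** -/
theorem isIso_abelMap (N : (PicF.XT f (Over.mk f)).Modules) (hN : PicF.IsInvertible N)
    (hNc : clsMod hN = thetaRep σ hσ hf (𝟙 (Over.mk f))) :
    IsIso (φ₀ (Over.mk f) (PicF.cl N)).left := by
  let α := φ₀ (Over.mk f) (PicF.cl N)
  have hN0 := isPicZeroCl_thetaRep σ hσ hf _ hN hNc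
  have cls : ∀ {T : Over S} (P : T ⟶ Over.mk f),
      clsMod (Ample.isInvertible_pullback (PicF.XTmap f P) hN) = thetaRep σ hσ hf P := fun P => by
    rw [Cube.clsMod_pullback _ hN, hNc, pull_thetaRep, Category.comp_id]
  have hα : ∀ {T : Over S} (P : T ⟶ Over.mk f), P ≫ α = φ₀ T (PicF.cl ((Scheme.Modules.pullback (PicF.XTmap f P)).obj N)) :=
    fun P => (hP₀.natural _ _ P _ hN0).symm
  have hzero : ∀ {T : Over S} (P : T ⟶ Over.mk f),
      AbDual.IsPicZeroCl f T (PicF.cl ((Scheme.Modules.pullback (PicF.XTmap f P)).obj N)) := fun P =>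
    isPicZeroCl_thetaRep σ hσ hf P (Ample.isInvertible_pullback _ hN) (cls P)
  -- injectivity on points
  have hinj : ∀ {T : Over S} (a b : T ⟶ Over.mk f), a ≫ α = b ≫ α → a = b := fun {T} a b hab => by
    rw [hα, hα] at hab
    obtain ⟨R, hR, hRu⟩ := hP₀.locallyInjective T _ _ (hzero a) (hzero b) hab
    apply Over.OverMorphism.ext
    refine eq_of_fppf hR _ _ fun U v hv => ?_
    let ψ := AbDual.ovrHom T v
    have h1 := PicSep26.cl_eq_iff.1 (hRu v hv)
    have h2 := (Cube.clsMod_eq_iff (Ample.isInvertible_pullback (PicF.XTmap f ψ) (Ample.isInvertible_pullback _ hN))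
      (Ample.isInvertible_pullback (PicF.XTmap f ψ) (Ample.isInvertible_pullback _ hN))).2 h1
    rw [Cube.clsMod_pullback _ (Ample.isInvertible_pullback _ hN), Cube.clsMod_pullback _ (Ample.isInvertible_pullback _ hN),
      cls, cls, pull_thetaRep, pull_thetaRep] at h2
    have h3 : ψ ≫ a = ψ ≫ b := theta_injective σ hσ hf _ (congrArg QuotientGroup.mk h2)
    exact congrArg CommaMorphism.left h3
  haveI : Mono α.left := ⟨fun {Z} a b hab => by
    have hfac : a ≫ f = b ≫ f := by
      have h1 : a ≫ α.left ≫ P₀.hom = b ≫ α.left ≫ P₀.hom := by rw [← Category.assoc, hab, Category.assoc]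
      rwa [Over.w α] at h1
    exact congrArg CommaMorphism.left (hinj (T := Over.mk (a ≫ f)) (Over.homMk a rfl) (Over.homMk b hfac.symm)
      (Over.OverMorphism.ext hab))⟩
  -- local surjectivity
  obtain ⟨R, hR, hRu⟩ := hP₀.locallySurjective P₀ (𝟙 P₀)
  have hsec : ∀ ⦃U : Scheme.{u}⦄ (v : U ⟶ P₀.left), R v → ∃ g : U ⟶ E, g ≫ α.left = v := fun U v hv => by
    obtain ⟨c, ⟨L, rfl, hL, hLt⟩, hc⟩ := hRu v hv
    let T := AbDual.ovr P₀ v
    have hT := hypsT hf T
    haveI := hT.proper
    haveI := hT.smooth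
    haveI := hT.conn
    have ho : PicF.secT f σ hσ T ≫ PicF.XTproj f T = 𝟙 _ := pullback.lift_snd _ _ _
    obtain ⟨hO, hOc⟩ := Dual.hasCls_rep (secCl hT _ ho)⁻¹
    have hL' := Ample.isInvertible_tensorMod hL hO
    have hd : ∀ y, fdeg (PicF.XTproj f T) (CohB1.tensorMod L (Dual.rep (secCl hT _ ho)⁻¹)) y = 1 := fun y => by
      rw [fdeg_mul hT hL hO hL' (Cube.clsMod_tensorMod hL hO) y,
        fdeg_zero_of_algTrivial hT hL y (hLt y), fdeg_inv_secCl hT _ ho hO hOc y, zero_add]
    obtain ⟨x, hx, hIx, n, hn⟩ := exists_section_class (PicF.XTproj f T) hT.dim hT.genus _ ho hL' hd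
    obtain ⟨P, rfl⟩ := exists_point x hx
    rw [Cube.clsMod_tensorMod hL hO, hOc, mul_inv_eq_iff_eq_mul] at hn
    refine ⟨P.left, ?_⟩
    have h4 : φ₀ T (PicF.cl L) = P ≫ α := by
      rw [hα]
      refine phi_twist P₀ φ₀ hP₀ hL (Ample.isInvertible_pullback _ hN) ⟨L, rfl, hL, hLt⟩ (hzero P) n ?_
      rw [cls, thetaRep, hn, mul_comm (secCl (hypsT hf T) (PicF.secT f σ hσ T) _), mul_right_comm]
      rfl
    rw [hc, Category.comp_id] at h4
    exact (congrArg CommaMorphism.left h4).symm
  obtain ⟨ι, Y, v, rfl⟩ := R.exists_eq_ofArrows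
  obtain ⟨h1, h2⟩ := (Scheme.ofArrows_mem_precoverage_iff _).mp hR
  choose i hi using h1
  choose g hg using fun t : P₀.left => hsec (v (i t)) (Presieve.ofArrows.mk _)
  let p : (∐ fun t : P₀.left => Y (i t)) ⟶ P₀.left := Sigma.desc fun t => v (i t)
  haveI : Flat p := IsZariskiLocalAtSource.sigmaDesc fun t => (h2 (i t)).1
  haveI : LocallyOfFinitePresentation p := IsZariskiLocalAtSource.sigmaDesc fun t => (h2 (i t)).2
  haveI : Surjective p := ⟨fun t => by
    obtain ⟨y, hy⟩ := hi t
    exact ⟨Sigma.ι (fun t : P₀.left => Y (i t)) t y, by rw [← Scheme.Hom.comp_apply, Sigma.ι_desc]; exact hy⟩⟩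
  let l : (∐ fun t : P₀.left => Y (i t)) ⟶ E := Sigma.desc g
  have hl : l ≫ α.left = p := Sigma.hom_ext _ _ fun t => by
    rw [Sigma.ι_desc_assoc, Sigma.ι_desc]
    exact hg t
  let e : P₀.left ⟶ E := EffectiveEpi.desc p l fun g₁ g₂ h => (cancel_mono α.left).1 (by
    rw [Category.assoc, Category.assoc, hl, h])
  have hinv : e ≫ α.left = 𝟙 _ := by
    rw [← cancel_epi p, ← Category.assoc, EffectiveEpi.fac, hl, Category.comp_id]
  refine ⟨e, ?_, hinv⟩
  rw [← cancel_mono α.left, Category.assoc, hinv]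
  exact (Category.comp_id _).trans (Category.id_comp _).symm

include hf hP₀ hσ in
/-- The isomorphism, in the form of the classes of the diagonal and of the origin. -/
theorem isIso_abelMap_diag (LΔ : (PicF.XT f (Over.mk f)).Modules) (hLΔ : PicF.IsInvertible LΔ)
    (hΔ : ClSub.IsInverseOf LΔ (ClSub.idealMod (pullback.diagonal f).ker)) :
    IsIso (φ₀ (Over.mk f) (PicF.cl (CohB1.tensorMod LΔ
      ((Scheme.Modules.pullback (pullback.fst f f)).obj (ClSub.idealMod σ.ker))))).left := by
  let T : Over S := Over.mk f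
  have hI := hf.isInvertible_ideal σ hσ
  have hfI : PicF.IsInvertible ((Scheme.Modules.pullback (pullback.fst f f)).obj (ClSub.idealMod σ.ker)) :=
    Ample.isInvertible_pullback (pullback.fst f f) hI
  refine isIso_abelMap (σ := σ) (hσ := hσ) hf P₀ φ₀ hP₀ _ (Ample.isInvertible_tensorMod hLΔ hfI) ?_
  have hD := (hypsT hf T).isInvertible_ideal (graph (𝟙 T)) (graph_snd _)
  rw [Cube.clsMod_tensorMod hLΔ hfI, Cube.clsMod_eq_inv_of_isInverseOf hLΔ hD hΔ, mul_comm, thetaRep]
  congr 1
  refine (Cube.clsMod_pullback _ hI).trans ?_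
  exact pull_secCl hf (IsPullback.of_hasPullback f f) σ hσ (PicF.secT f σ hσ T) (pullback.lift_snd _ _ _)
    (pullback.lift_fst _ _ _)

end Abel

end GrothLib.EllGroup15
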