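import Groth.Agent.Lib.DegPoly.Two
import Groth.Agent.Lib.Poincare.ExactUpTo
import Groth.Agent.Lib.OmegaSub11.Uniform
import Groth.Agent.Lib.CubeRel26.AbScheme
import Groth.Agent.Lib.Rigidity.Relative.Lemma
import Groth.Agent.Lib.Rigidity.Relative.AbScheme
import Groth.Prelude.Def_AgPol

/-!
# An automorphism of a family of elliptic curves fixing a finite subgroup of rank at least five is trivial
-/

set_option autoImplicit false
set_option linter.all false
set_option backward.isDefEq.respectTransparency false
set_option maxHeartbeats 2000000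

universe u

open CategoryTheory CategoryTheory.Limits AlgebraicGeometry
open CategoryTheory.MonoidalCategory CategoryTheory.CartesianMonoidalCategory
open scoped MonObj

noncomputable section

namespace GrothLib.EllGroup15

theorem finrank_spec_comp_le {K : Type u} [Field K] {A R : CommRingCat.{u}} (ψ : R ⟶ A)
    [IsClosedImmersion (Spec.map ψ)] (φ : CommRingCat.of K ⟶ R) [IsFinite (Spec.map φ)]
    (s : Spec (CommRingCat.of K)) :
    (Spec.map ψ ≫ Spec.map φ).finrank s ≤ (Spec.map φ).finrank s := by
  have hψ : Function.Surjective ψ.hom :=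
    (IsClosedImmersion.isAffine_surjective_of_isAffine (Spec.map ψ)).2 |> fun h => by
      have e := Scheme.ΓSpecIso_naturality ψ
      intro a
      obtain ⟨b, hb⟩ := h ((Scheme.ΓSpecIso A).inv a)
      refine ⟨(Scheme.ΓSpecIso R).hom b, ?_⟩
      have e' := congrArg (fun f => f.hom b) e
      simp only [CommRingCat.hom_comp, RingHom.comp_apply] at e'
      rw [← e', hb]
      exact ConcreteCategory.congr_hom (Scheme.ΓSpecIso A).inv_hom_id a
  have hfin : φ.hom.Finite := (IsFinite.SpecMap_iff φ).1 ‹_›
  letI := φ.hom.toAlgebra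
  letI := (φ ≫ ψ).hom.toAlgebra
  haveI : Module.Finite K R := hfin
  let ψ' : R →ₐ[K] A := ⟨ψ.hom, fun _ => rfl⟩
  haveI : Module.Finite K A := Module.Finite.of_surjective ψ'.toLinearMap hψ
  rw [← Spec.map_comp]
  show (Spec.map (CommRingCat.ofHom (algebraMap K A))).finrank s ≤
    (Spec.map (CommRingCat.ofHom (algebraMap K R))).finrank s
  rw [Scheme.Hom.finrank_SpecMap_algebraMap, Scheme.Hom.finrank_SpecMap_algebraMap,
    Module.rankAtStalk_eq_finrank_of_free, Module.rankAtStalk_eq_finrank_of_free]
  exact LinearMap.finrank_le_finrank_of_surjective (f := ψ'.toLinearMap) hψ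

theorem flat_over_field {K : Type u} [Field K] {R : CommRingCat.{u}} (q : Spec R ⟶ Spec (CommRingCat.of K)) :
    Flat q := by
  rw [← Spec.map_preimage q, Flat.SpecMap_iff]
  letI := (Spec.preimage q).hom.toAlgebra
  show Module.Flat K R
  infer_instance

/-- A closed subscheme of a finite scheme over a field has smaller rank. -/
theorem finrank_comp_le {K : Type u} [Field K] {X Y : Scheme.{u}} (j : X ⟶ Y) [IsClosedImmersion j]
    (q : Y ⟶ Spec (CommRingCat.of K)) [IsFinite q] (s : Spec (CommRingCat.of K)) :
    (j ≫ q).finrank s ≤ q.finrank s := by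
  haveI : IsAffine Y := isAffine_of_isAffineHom q
  haveI : IsAffine X := isAffine_of_isAffineHom j
  let j' := X.isoSpec.inv ≫ j ≫ Y.isoSpec.hom
  let q' := Y.isoSpec.inv ≫ q
  haveI : IsClosedImmersion (Spec.map (Spec.preimage j')) := by rw [Spec.map_preimage]; infer_instance
  haveI : IsFinite (Spec.map (Spec.preimage q')) := by rw [Spec.map_preimage]; infer_instance
  haveI := flat_over_field q'
  haveI := flat_over_field (j' ≫ q')
  have h := finrank_spec_comp_le (Spec.preimage j') (Spec.preimage q') s
  rw [Spec.map_preimage, Spec.map_preimage] at h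
  have e1 : j ≫ q = X.isoSpec.hom ≫ (j' ≫ q') := by simp [j', q']
  have e2 : q = Y.isoSpec.hom ≫ q' := by simp [q']
  calc (j ≫ q).finrank s = (X.isoSpec.hom ≫ (j' ≫ q')).finrank s := by rw [← e1]
    _ = (j' ≫ q').finrank s := congrFun (Scheme.Hom.finrank_comp_left_of_isIso X.isoSpec.hom (j' ≫ q')) s
    _ ≤ q'.finrank s := h
    _ = (Y.isoSpec.hom ≫ q').finrank s :=
      (congrFun (Scheme.Hom.finrank_comp_left_of_isIso Y.isoSpec.hom q') s).symm
    _ = q.finrank s := by rw [← e2]

section Field

variable {K : Type u} [Field K] [IsAlgClosed K] (A : Over (Spec (CommRingCat.of K))) [GrpObj A]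
  [IsProper A.hom] [GeometricallyIntegral A.hom]

/-- Over an algebraically closed field, an automorphism fixing a subgroup scheme of rank at least five
differs from the identity by a homomorphism with one point image. -/
theorem subsingleton_range_id_div (hA : topologicalKrullDim A.left = ((1 : ℕ) : WithBot ℕ∞))
    (ε : A ≅ A) [IsMonHom ε.hom] (G : Over (Spec (CommRingCat.of K))) (i : G ⟶ A) [IsClosedImmersion i.left]
    [IsFinite G.hom] (hN : 5 ≤ G.hom.finrank (IsLocalRing.closedPoint K)) (h : i ≫ ε.hom = i) :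
    (Set.range (𝟙 A * ε.hom⁻¹ : A ⟶ A).left).Subsingleton := by
  haveI := Cube.isCommMonObj_abVar (A := A)
  haveI : IsIntegral A.left := GeometricallyIntegral.isIntegral_of_subsingleton A.hom
  haveI : IsLocallyNoetherian A.left := LocallyOfFiniteType.isLocallyNoetherian A.hom
  set δ : A ⟶ A := 𝟙 A * ε.hom⁻¹ with hδ
  haveI hhom : IsMonHom δ := by
    haveI : ∀ j, IsMonHom (![𝟙 A, ε.hom] j) := fun j => by fin_cases j <;> (dsimp; infer_instance)
    have := DegPoly.isMonHom_prod_zpow ![𝟙 A, ε.hom] ![1, -1]
    rw [Fin.prod_univ_two] at this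
    simpa [hδ] using this
  haveI : IsProper δ.left := by
    haveI : IsProper (δ.left ≫ A.hom) := by rw [Over.w]; infer_instance
    exact IsProper.of_comp δ.left A.hom
  by_cases hs : Surjective δ.left
  · exfalso
    haveI := hs
    haveI := Poincare.isFinite_of_surjective_dim δ hA hA
    haveI : Flat δ.left := GrpSchField.flat_hom δ
    haveI : LocallyOfFinitePresentation δ.left := inferInstance
    obtain ⟨P, hP, hval⟩ := DegPoly.exists_two hA hA (𝟙 A) ε.hom
    have hd : ∀ d ∈ P.support, d 0 + d 1 = 2 := fun d hd => by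
      have := hP (MvPolynomial.mem_support_iff.1 hd)
      rw [Finsupp.weight_apply, Finsupp.sum_fintype _ _ (fun _ => by simp), Fin.sum_univ_two] at this
      simpa using this
    have hpar : MvPolynomial.eval ![(1 : ℚ), 1] P + MvPolynomial.eval ![(1 : ℚ), -1] P =
        2 * MvPolynomial.eval ![(1 : ℚ), 0] P + 2 * MvPolynomial.eval ![(0 : ℚ), 1] P := by
      simp only [MvPolynomial.eval_eq', Finset.mul_sum, ← Finset.sum_add_distrib]
      refine Finset.sum_congr rfl fun d hd' => ?_
      have := hd d hd'
      rcases (by omega : d 0 = 0 ∧ d 1 = 2 ∨ d 0 = 1 ∧ d 1 = 1 ∨ d 0 = 2 ∧ d 1 = 0) with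
        ⟨a, b⟩ | ⟨a, b⟩ | ⟨a, b⟩ <;> simp [Fin.prod_univ_two, a, b] <;> ring
    let pt : A.left := η[A].left (IsLocalRing.closedPoint K)
    have hone : ∀ (f : A ⟶ A) [IsIso f], f.left.finrank pt = 1 := fun f _ =>
      congrFun ((Scheme.Hom.isIso_iff_finrank_eq f.left).1 inferInstance) pt
    have h10 : MvPolynomial.eval ![(1 : ℚ), 0] P = 1 := by
      have h1 := (hval 1 0).1
      rw [zpow_one, zpow_zero, _root_.mul_one] at h1
      have h2 := h1 (by rw [Over.id_left]; infer_instance) pt
      rw [hone] at h2
      simpa using h2.symm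
    have h01 : MvPolynomial.eval ![(0 : ℚ), 1] P = 1 := by
      have h1 := (hval 0 1).1
      rw [zpow_one, zpow_zero, _root_.one_mul] at h1
      have h2 := h1 inferInstance pt
      rw [hone] at h2
      simpa using h2.symm
    have h11 : (0 : ℚ) ≤ MvPolynomial.eval ![(1 : ℚ), 1] P := by
      have h1 := hval 1 1
      simp only [Int.cast_one] at h1
      by_cases hf : IsFinite ((𝟙 A) ^ (1 : ℤ) * ε.hom ^ (1 : ℤ)).left
      · rw [← h1.1 hf pt]; positivity
      · rw [h1.2 hf]
    have hdeg : (δ.left.finrank pt : ℚ) ≤ 4 := by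
      have h1 := (hval 1 (-1)).1
      rw [zpow_one, zpow_neg_one, ← hδ] at h1
      rw [h1 inferInstance pt]
      push_cast
      linarith
    have hker : i ≫ δ = toUnit G ≫ η[A] := by
      rw [hδ, MonObj.comp_mul, Category.comp_id, GrpObj.comp_inv, h, mul_inv_cancel, Hom.one_def]
    have hker' : i.left ≫ δ.left = G.hom ≫ η[A].left := by
      rw [← Over.comp_left, hker, Over.comp_left]
      rfl
    let j : G.left ⟶ pullback δ.left η[A].left := pullback.lift i.left G.hom hker'
    haveI : IsClosedImmersion j := by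
      haveI : IsClosedImmersion (j ≫ pullback.fst δ.left η[A].left) := by
        rw [pullback.lift_fst]; infer_instance
      exact IsClosedImmersion.of_comp j (pullback.fst δ.left η[A].left)
    haveI : IsFinite (pullback.snd δ.left η[A].left) :=
      MorphismProperty.pullback_snd (P := @IsFinite) _ _ inferInstance
    have hle := finrank_comp_le j (pullback.snd δ.left η[A].left) (IsLocalRing.closedPoint K)
    rw [pullback.lift_snd] at hle
    rw [Scheme.Hom.finrank_pullback_snd] at hle
    have : (5 : ℚ) ≤ δ.left.finrank pt := by exact_mod_cast hN.trans hle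
    linarith
  · have hC := δ.left.isClosedMap.isClosed_range
    have hirr : IsIrreducible (Set.range δ.left) :=
      Set.image_univ (f := δ.left) ▸
        (IrreducibleSpace.isIrreducible_univ A.left).image δ.left δ.left.continuous.continuousOn
    refine Dim.subsingleton_of_dim_eq_zero hC hirr ?_
    by_contra hn
    refine hs ⟨fun x => ?_⟩
    have hle : topologicalKrullDim (Set.range δ.left) ≤ ((1 : ℕ) : WithBot ℕ∞) :=
      (topologicalKrullDim_subspace_le A.left _).trans hA.le
    have hge : ((1 : ℕ) : WithBot ℕ∞) ≤ topologicalKrullDim (Set.range δ.left) := by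
      revert hn
      generalize topologicalKrullDim (Set.range δ.left) = d
      induction d using WithBot.recBotCoe with
      | bot => simp
      | coe a => intro hn; rw [not_le] at hn; exact_mod_cast Order.one_le_iff_pos.2 (by exact_mod_cast hn)
    exact (Dim.eq_univ_of_dim_le hC (hA.le.trans hge) (le_antisymm hle hge)).ge (Set.mem_univ x)

end Field

variable {S : Scheme.{u}} (E : Over S) [GrpObj E]

/-- An automorphism of a family of elliptic curves fixing a finite flat subgroup of rank at least five
is trivial. -/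
theorem eq_id_of_fix (hE : AgPol.IsAbSch E 1) (G : Over S) (i : G ⟶ E) [IsClosedImmersion i.left]
    [IsFinite G.hom] [Flat G.hom] [LocallyOfFinitePresentation G.hom]
    (hN : ∀ s : S, 5 ≤ G.hom.finrank s) (ε : E ≅ E) [IsMonHom ε.hom] (h : i ≫ ε.hom = i) :
    ε.hom = 𝟙 E := by
  haveI := hE.smooth
  haveI := hE.proper
  haveI := hE.geomConnected
  haveI : GeometricallyReduced E.hom := Rigidity.geometricallyReduced_of_smooth' E.hom
  haveI : GeometricallyIntegral E.hom := CubeRel26.geometricallyIntegral_abScheme E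
  set δ : E ⟶ E := 𝟙 E * ε.hom⁻¹ with hδ
  have hη : η[E].left ≫ E.hom = 𝟙 S := Over.w η[E]
  obtain ⟨W, -, hW, hfac⟩ := Rigidity.exists_isClopen_factor_of_section E.hom η[E].left hη (𝟙 S) E.hom δ.left
    (by rw [Over.w, Category.comp_id])
  have htop : W = ⊤ := by
    refine TopologicalSpace.Opens.ext (Set.eq_univ_of_forall fun s => (hW s).1 ?_)
    let Ω := AlgebraicClosure (S.residueField s)
    let t : Spec (CommRingCat.of Ω) ⟶ S :=
      Spec.map (CommRingCat.ofHom (algebraMap (S.residueField s) Ω)) ≫ S.fromSpecResidueField s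
    have ht : t (IsLocalRing.closedPoint Ω) = s := by
      exact (Scheme.Hom.comp_apply _ _ _).trans (Scheme.fromSpecResidueField_apply _ _)
    let F := Over.pullback t
    let A : Over (Spec (CommRingCat.of Ω)) := F.obj E
    letI : GrpObj A := inferInstanceAs (GrpObj (F.obj E))
    haveI : IsProper A.hom := inferInstanceAs (IsProper (pullback.snd E.hom t))
    haveI : GeometricallyIntegral A.hom := inferInstanceAs (GeometricallyIntegral (pullback.snd E.hom t))
    have hA : topologicalKrullDim A.left = ((1 : ℕ) : WithBot ℕ∞) :=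
      OmegaSub11.topologicalKrullDim_fibre_point E.hom Ω t _ hE.fibreDim
    let ε' : A ≅ A := F.mapIso ε
    haveI : IsMonHom ε'.hom := inferInstanceAs (IsMonHom (F.map ε.hom))
    haveI : IsClosedImmersion (F.map i).left :=
      MorphismProperty.overPullbackMap (P := @IsClosedImmersion) t i inferInstance
    haveI : IsFinite (F.obj G).hom := MorphismProperty.pullback_snd (P := @IsFinite) _ _ ‹IsFinite G.hom›
    have hN' : 5 ≤ (F.obj G).hom.finrank (IsLocalRing.closedPoint Ω) := by
      exact (hN s).trans_eq
        ((Scheme.Hom.finrank_pullback_snd G.hom t _).trans (congrArg G.hom.finrank ht)).symm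
    have hsub := subsingleton_range_id_div A hA ε' (F.obj G) (F.map i) hN'
      (by show F.map i ≫ F.map ε.hom = F.map i; rw [← F.map_comp, h])
    have hmap : F.map δ = 𝟙 A * ε'.hom⁻¹ := by
      rw [hδ, Functor.map_mul, Functor.map_inv', F.map_id]
      rfl
    rw [← hmap] at hsub
    have hsq : (F.map δ).left ≫ pullback.fst E.hom t = pullback.fst E.hom t ≫ δ.left := pullback.lift_fst _ _ _
    rintro _ ⟨a, ha, rfl⟩ _ ⟨b, hb, rfl⟩
    obtain ⟨a', ha', -⟩ := Scheme.Pullback.exists_preimage_pullback (f := E.hom) (g := t) a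
      (IsLocalRing.closedPoint Ω) (ha.trans ht.symm)
    obtain ⟨b', hb', -⟩ := Scheme.Pullback.exists_preimage_pullback (f := E.hom) (g := t) b
      (IsLocalRing.closedPoint Ω) (hb.trans ht.symm)
    have key : ∀ c, δ.left (pullback.fst E.hom t c) = pullback.fst E.hom t ((F.map δ).left c) := fun c => by
      have := congrArg (fun φ => φ c) hsq
      exact ((Scheme.Hom.comp_apply _ _ _).symm.trans (this.symm.trans (Scheme.Hom.comp_apply _ _ _)))
    rw [← ha', ← hb', key, key]
    exact congrArg _ (hsub ⟨a', rfl⟩ ⟨b', rfl⟩)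
  have hδ1 : δ = 1 := by
    ext1
    subst htop
    have hfac' : δ.left = E.hom ≫ η[E].left ≫ δ.left := by
      haveI : IsIso (E.hom ⁻¹ᵁ (⊤ : S.Opens)).ι := by
        rw [Scheme.Hom.preimage_top]; exact inferInstanceAs (IsIso E.left.topIso.hom)
      exact (cancel_epi (E.hom ⁻¹ᵁ (⊤ : S.Opens)).ι).1 hfac
    have h1 : η[E] ≫ δ = η[E] := by
      rw [hδ, MonObj.comp_mul, Category.comp_id, GrpObj.comp_inv, IsMonHom.one_hom, mul_inv_cancel,
        Hom.one_def, toUnit_unique (toUnit _) (𝟙 _), Category.id_comp]
    rw [hfac', ← Over.comp_left, h1, Hom.one_def, Over.comp_left]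
    rfl
  rw [hδ, mul_inv_eq_one] at hδ1
  exact hδ1.symm

end GrothLib.EllGroup15
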