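import Groth.Agent.Lib.EllGroup15.OverField
import Groth.Agent.Lib.DefSm26.System
import Groth.Agent.Lib.MagnetGr25.SmoothLift
import Groth.Agent.Lib.Neutral.Connected
import Groth.Prelude.Def_PtDefo
import Groth.Prelude.Def_Curve

/-!
# Pointed deformations of a curve of genus one
-/

set_option autoImplicit false
set_option linter.all false
set_option backward.isDefEq.respectTransparency false
set_option maxHeartbeats 2000000

universe u

open CategoryTheory CategoryTheory.Limits AlgebraicGeometry Opposite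
open CategoryTheory.MonoidalCategory CategoryTheory.CartesianMonoidalCategory
open scoped MonObj
open ArtFun ArtFun.Art

noncomputable section

namespace GrothLib.EllGroup15

open GrothLib.SmCurveFam

section Translation

variable {E S : Scheme.{u}} {f : E ⟶ S}

/-- Translation moves one section to the other and fixes every point lying over the locus where they agree. -/
theorem exists_translation (hf : IsGenusOne f) (s s' : S ⟶ E) (hs : s ≫ f = 𝟙 S) (hs' : s' ≫ f = 𝟙 S) :
    ∃ τ : E ≅ E, τ.hom ≫ f = f ∧ s ≫ τ.hom = s' ∧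
      ∀ {Z : Scheme.{u}} (z : Z ⟶ E), (z ≫ f) ≫ s = (z ≫ f) ≫ s' → z ≫ τ.hom = z := by
  letI := grpObj s hs hf
  let T₀ : Over S := Over.mk (𝟙 S)
  let Q : T₀ ⟶ Over.mk f := Over.homMk s' hs'
  let c : Over.mk f ⟶ T₀ := Over.homMk f (Category.comp_id f)
  let a : Over.mk f ⟶ Over.mk f := 𝟙 _ * (c ≫ Q)
  let b : Over.mk f ⟶ Over.mk f := 𝟙 _ * (c ≫ Q⁻¹)
  have hcc : ∀ {T : Over S} (g : T ⟶ Over.mk f), g ≫ c = Over.homMk T.hom (Category.comp_id _) := fun g =>
    Over.OverMorphism.ext (Over.w g)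
  have hg : ∀ {T : Over S} (g : T ⟶ Over.mk f) (R : T₀ ⟶ Over.mk f), g ≫ (𝟙 _ * (c ≫ R)) =
      g * ((Over.homMk T.hom (Category.comp_id _) : T ⟶ T₀) ≫ R) := fun g R => by
    rw [MonObj.comp_mul, Category.comp_id, ← Category.assoc, hcc]
  have hc : (Over.homMk (Over.mk f).hom (Category.comp_id _) : Over.mk f ⟶ T₀) = c := rfl
  have hab : a ≫ b = 𝟙 _ := by
    show a ≫ (𝟙 _ * (c ≫ Q⁻¹)) = _
    rw [hg, hc, mul_assoc, ← MonObj.comp_mul, mul_inv_cancel, MonObj.comp_one, mul_one]
  have hba : b ≫ a = 𝟙 _ := by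
    show b ≫ (𝟙 _ * (c ≫ Q)) = _
    rw [hg, hc, mul_assoc, ← MonObj.comp_mul, inv_mul_cancel, MonObj.comp_one, mul_one]
  refine ⟨(Over.forget S).mapIso ⟨a, b, hab, hba⟩, Over.w a, ?_, fun {Z} z hz => ?_⟩
  · have hO : origin s hs T₀ = (Over.homMk s hs : T₀ ⟶ Over.mk f) := Over.OverMorphism.ext (Category.id_comp s)
    have h : (Over.homMk s hs : T₀ ⟶ Over.mk f) ≫ a = Q := by
      refine (hg _ Q).trans ?_
      rw [← hO, ← one_eq_origin s hs hf T₀, one_mul]
      exact Over.OverMorphism.ext (Category.id_comp _)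
    exact congrArg CommaMorphism.left h
  · let T : Over S := Over.mk (z ≫ f)
    let g : T ⟶ Over.mk f := Over.homMk z rfl
    have h1 : (Over.homMk T.hom (Category.comp_id _) : T ⟶ T₀) ≫ Q = origin s hs T :=
      Over.OverMorphism.ext hz.symm
    have h : g ≫ a = g := by
      refine (hg g Q).trans ?_
      rw [h1, ← one_eq_origin s hs hf T, mul_one]
    exact congrArg CommaMorphism.left h

end Translation

section Deform

variable {k : Type u} [Field k] {X : Scheme.{u}} {x : X ⟶ specPt k}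

theorem subsingleton_spec (A : Art k k) : Subsingleton ↥(spec A) := by
  haveI : Surjective (specRes A) := DefAut26.surjective_specRes A
  haveI : Subsingleton ↥(specPt k) := inferInstanceAs (Subsingleton (PrimeSpectrum k))
  exact (specRes A).surjective.subsingleton

/-- Field valued points of `Spec A` factor through the closed point. -/
theorem exists_factor_specRes (A : Art k k) {K : Type u} [Field K] (y : Spec (CommRingCat.of K) ⟶ spec A) :
    ∃ y' : Spec (CommRingCat.of K) ⟶ specPt k, y' ≫ specRes A = y := by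
  let φ : A →+* K := (Spec.preimage y).hom
  have hker : RingHom.ker A.res.toRingHom ≤ RingHom.ker φ := by
    rw [show RingHom.ker A.res.toRingHom = IsLocalRing.maximalIdeal A from LciDef19.ker_res_eq A]
    intro a ha
    obtain ⟨n, hn⟩ := LciDef19.isNilpotent_maximal A
    have : a ^ n = 0 := by
      have := Ideal.pow_mem_pow ha n
      rwa [hn] at this
    exact (IsNilpotent.map ⟨n, this⟩ φ).eq_zero
  let ψ : k →+* K := RingHom.liftOfSurjective A.res.toRingHom A.res_surjective ⟨φ, hker⟩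
  refine ⟨Spec.map (CommRingCat.ofHom ψ), ?_⟩
  show Spec.map (CommRingCat.ofHom ψ) ≫ Spec.map (CommRingCat.ofHom A.res.toRingHom) = y
  rw [← Spec.map_comp, ← CommRingCat.ofHom_comp]
  refine (congrArg Spec.map ?_).trans (Spec.map_preimage y)
  refine CommRingCat.hom_ext (RingHom.ext fun a => ?_)
  exact RingHom.liftOfRightInverse_comp_apply A.res.toRingHom _ (Function.rightInverse_surjInv A.res_surjective) ⟨φ, hker⟩ a

theorem geometricallyConnected_f [GeometricallyConnected x] {A : Art k k} (ξ : ArtFun.DefSch X x A) :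
    GeometricallyConnected ξ.f := by
  refine ⟨fun K _ y Z fst snd h => ?_⟩
  obtain ⟨y', rfl⟩ := exists_factor_specRes A y
  let l : Z ⟶ X := ξ.isPullback.lift fst (snd ≫ y') (by rw [Category.assoc]; exact h.w)
  have h' : IsPullback l snd x y' := by
    refine IsPullback.of_right ?_ (ξ.isPullback.lift_snd _ _ _) ξ.isPullback
    rw [ξ.isPullback.lift_fst]
    exact h
  exact GeometricallyConnected.geometrically_connectedSpace y' l snd h'

theorem isGenusOne_f [IsProper x] [Smooth x] (hx : IsGenusOne x) {A : Art k k} (ξ : ArtFun.DefSch X x A) :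
    IsGenusOne ξ.f := by
  haveI := hx.conn
  haveI := DefSm26.smooth_f ξ
  haveI := DefSm26.isProper_f ξ
  haveI := subsingleton_spec A
  haveI := geometricallyConnected_f ξ
  let p : specPt k := IsLocalRing.closedPoint k
  refine ⟨inferInstance, inferInstance, inferInstance, fun s => ?_, fun s => ?_⟩
  · rw [Subsingleton.elim s (specRes A p), ← FibreBC.topologicalKrullDim_fiber ξ.isPullback p]
    exact hx.dim p
  · haveI : (Coh.structureModule ξ.total).IsQuasicoherent :=
      InvExt.isQuasicoherent_of_isInvertible Euler.isInvertible_structure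
    rw [Subsingleton.elim s (specRes A p)]
    refine Eq.trans ?_ (hx.genus p)
    refine Eq.trans (GrowthBd.fiberRank_baseChange ξ.isPullback (Coh.structureModule ξ.total) 1 p).symm ?_
    obtain ⟨e⟩ := Ample.nonempty_pullback_structureModule ξ.i
    exact ((fiberRank_congr x _ 1 p ((Scheme.Modules.pullback (x.fiberι p)).mapIso e)).1)

/-- Rational points lift to sections of deformations. -/
theorem exists_section_lift [Smooth x] {A : Art k k} (ξ : ArtFun.DefSch X x A) (P : specPt k ⟶ X)
    (hP : P ≫ x = 𝟙 _) : ∃ σ : spec A ⟶ ξ.total, σ ≫ ξ.f = 𝟙 _ ∧ P ≫ ξ.i = specRes A ≫ σ := by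
  haveI := DefSm26.smooth_f ξ
  let m := IsLocalRing.maximalIdeal A
  let y : ∀ n : ℕ, Spec (CommRingCat.of (A ⧸ m ^ n)) ⟶ spec A := fun n =>
    Spec.map (CommRingCat.ofHom (Ideal.Quotient.mk (m ^ n)))
  have hm1 : ∀ a ∈ m ^ 1, A.res.toRingHom a = 0 := fun a ha => (Art.mem_maximalIdeal_iff A a).1 (by rwa [pow_one] at ha)
  let r : A ⧸ m ^ 1 →+* k := Ideal.Quotient.lift (m ^ 1) A.res.toRingHom hm1
  have hr : Function.Bijective r := by
    refine ⟨(injective_iff_map_eq_zero _).2 fun z hz => ?_, fun c => ?_⟩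
    · obtain ⟨a, rfl⟩ := Ideal.Quotient.mk_surjective z
      rw [Ideal.Quotient.eq_zero_iff_mem, pow_one]
      exact (Art.mem_maximalIdeal_iff A a).2 hz
    · obtain ⟨a, rfl⟩ := A.res_surjective c
      exact ⟨Ideal.Quotient.mk _ a, rfl⟩
  haveI : IsIso (CommRingCat.ofHom r) := (ConcreteCategory.isIso_iff_bijective _).2 hr
  let e := asIso (Spec.map (CommRingCat.ofHom r))
  have he : e.hom ≫ y 1 = specRes A := by
    show Spec.map _ ≫ Spec.map _ = _
    rw [← Spec.map_comp]
    rfl
  have key : ∀ n : ℕ, ∃ L : Spec (CommRingCat.of (A ⧸ m ^ (n + 1))) ⟶ ξ.total,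
      L ≫ ξ.f = y (n + 1) ∧ e.hom ≫ Spec.map (CommRingCat.ofHom (Ideal.Quotient.factor
        (Ideal.pow_le_pow_right (I := m) (Nat.le_add_left 1 n)))) ≫ L = P ≫ ξ.i := fun n => by
    induction n with
    | zero =>
      refine ⟨e.inv ≫ P ≫ ξ.i, ?_, ?_⟩
      · rw [Category.assoc, Category.assoc, ξ.isPullback.w, reassoc_of% hP, Iso.inv_comp_eq]
        exact he.symm
      · rw [show Ideal.Quotient.factor (Ideal.pow_le_pow_right (I := m) (Nat.le_add_left 1 0)) =
          RingHom.id (A ⧸ m ^ 1) from Ideal.Quotient.ringHom_ext rfl]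
        rw [show CommRingCat.ofHom (RingHom.id (A ⧸ m ^ 1)) = 𝟙 _ from rfl, Spec.map_id]
        exact (congrArg (e.hom ≫ ·) (Category.id_comp _)).trans (e.hom_inv_id_assoc _)
    | succ n ih =>
      obtain ⟨L, hL, hL'⟩ := ih
      have hle' : m ^ (n + 1 + 1) ≤ m ^ (n + 1) := Ideal.pow_le_pow_right (Nat.le_succ _)
      obtain ⟨L', h1, h2⟩ := MagnetGr.exists_lift_of_smooth ξ.f (Ideal.Quotient.factor hle')
        (Ideal.Quotient.factor_surjective hle') (by
          rw [eq_bot_iff, sq, Ideal.mul_le]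
          intro a ha b hb
          obtain ⟨a, rfl⟩ := Ideal.Quotient.mk_surjective a
          obtain ⟨b, rfl⟩ := Ideal.Quotient.mk_surjective b
          rw [RingHom.mem_ker, Ideal.Quotient.factor_mk, Ideal.Quotient.eq_zero_iff_mem] at ha hb
          rw [Ideal.mem_bot, ← map_mul, Ideal.Quotient.eq_zero_iff_mem]
          refine Ideal.pow_le_pow_right (show n + 1 + 1 ≤ (n + 1) + (n + 1) by omega) ?_
          rw [pow_add]
          exact Ideal.mul_mem_mul ha hb) L (y (n + 1 + 1)) (by
          rw [hL]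
          show Spec.map _ ≫ Spec.map _ = Spec.map _
          rw [← Spec.map_comp, ← CommRingCat.ofHom_comp, Ideal.Quotient.factor_comp_mk])
      refine ⟨L', h2, ?_⟩
      rw [← hL', ← h1, ← Category.assoc (Spec.map _) (Spec.map _) L', ← Spec.map_comp, ← CommRingCat.ofHom_comp,
        Ideal.Quotient.factor_comp]
  obtain ⟨n, hn⟩ := LciDef19.isNilpotent_maximal A
  obtain ⟨L, hL, hL'⟩ := key n
  have hbot : m ^ (n + 1) = ⊥ := by
    rw [pow_succ]
    show m ^ n * m = ⊥
    rw [show m ^ n = ⊥ from hn, Ideal.bot_mul]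
  haveI : IsIso (CommRingCat.ofHom (Ideal.Quotient.mk (m ^ (n + 1)))) := by
    refine (ConcreteCategory.isIso_iff_bijective _).2 ⟨?_, Ideal.Quotient.mk_surjective⟩
    refine (injective_iff_map_eq_zero (Ideal.Quotient.mk (m ^ (n + 1)))).2 fun a ha => ?_
    rwa [Ideal.Quotient.eq_zero_iff_mem, hbot, Ideal.mem_bot] at ha
  haveI : IsIso (y (n + 1)) := inferInstanceAs (IsIso (Spec.map _))
  refine ⟨inv (y (n + 1)) ≫ L, by rw [Category.assoc, hL, IsIso.inv_hom_id], ?_⟩
  rw [← hL', ← he, Category.assoc, ← Category.assoc (y 1)]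
  refine congrArg (e.hom ≫ ·) (congrArg (· ≫ L) ((IsIso.eq_comp_inv _).2 ?_))
  show Spec.map _ ≫ Spec.map _ = Spec.map _
  rw [← Spec.map_comp, ← CommRingCat.ofHom_comp, Ideal.Quotient.factor_comp_mk]

end Deform

section Forget

variable {k : Type u} [Field k] [IsAlgClosed k] (X : Scheme.{u}) [X.Over (Spec (CommRingCat.of k))]

theorem isGenusOne_curve (hX : Curve.IsSmoothProperCurve k X (X ↘ Spec (CommRingCat.of k)))
    (hg : Curv2.genus k X = 1) (P : Spec (CommRingCat.of k) ⟶ X)
    (hP : P ≫ (X ↘ Spec (CommRingCat.of k)) = 𝟙 _) : IsGenusOne (X ↘ Spec (CommRingCat.of k)) := by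
  obtain ⟨h1, h2, h3, h4⟩ := hX
  haveI := h1
  haveI := h2
  haveI := h3
  haveI := Neutral.geometricallyConnected_of_point (X ↘ Spec (CommRingCat.of k)) P hP
  exact isGenusOne_field (X ↘ Spec (CommRingCat.of k)) h4 hg

theorem forgetPts_surjective (hX : Curve.IsSmoothProperCurve k X (X ↘ Spec (CommRingCat.of k)))
    (P : Spec (CommRingCat.of k) ⟶ X) (hP : P ≫ (X ↘ Spec (CommRingCat.of k)) = 𝟙 _) (A : ArtFun.Art k k) :
    Function.Surjective ((PtDefo.forgetPts (Λ := k) X (X ↘ Spec (CommRingCat.of k))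
      (fun _ : PUnit.{u + 1} => P)).app A) := by
  haveI := hX.2.1
  intro q
  induction q using Quotient.inductionOn with
  | h ξ =>
    obtain ⟨σ, h1, h2⟩ := exists_section_lift ξ P hP
    exact ⟨Quotient.mk _ { toDefSch := ξ, sect := fun _ => σ, sect_f := fun _ => h1, pt_sect := fun _ => h2 }, rfl⟩

theorem forgetPts_injective (hX : Curve.IsSmoothProperCurve k X (X ↘ Spec (CommRingCat.of k)))
    (hg : Curv2.genus k X = 1) (P : Spec (CommRingCat.of k) ⟶ X)
    (hP : P ≫ (X ↘ Spec (CommRingCat.of k)) = 𝟙 _) (A : ArtFun.Art k k) :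
    Function.Injective ((PtDefo.forgetPts (Λ := k) X (X ↘ Spec (CommRingCat.of k))
      (fun _ : PUnit.{u + 1} => P)).app A) := by
  have hgen := isGenusOne_curve X hX hg P hP
  haveI := hX.1
  haveI := hX.2.1
  intro q q' h
  induction q using Quotient.inductionOn with
  | h ξ =>
    induction q' using Quotient.inductionOn with
    | h ξ' =>
      obtain ⟨e⟩ := Quotient.exact h
      let s := ξ.sect PUnit.unit ≫ e.iso.hom
      let s' := ξ'.sect PUnit.unit
      have hs : s ≫ ξ'.f = 𝟙 _ := by rw [Category.assoc, e.hom_f, ξ.sect_f]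
      obtain ⟨τ, t1, t2, t3⟩ := exists_translation (isGenusOne_f hgen ξ'.toDefSch) s s' hs (ξ'.sect_f _)
      refine Quotient.sound ⟨{ iso := e.iso ≪≫ τ, hom_f := ?_, i_hom := ?_, sect_hom := fun j => ?_ }⟩
      · rw [Iso.trans_hom, Category.assoc, t1, e.hom_f]
      · rw [Iso.trans_hom, ← Category.assoc, e.i_hom]
        refine t3 ξ'.i ?_
        rw [ξ'.isPullback.w, Category.assoc, Category.assoc, ← ξ'.pt_sect PUnit.unit]
        show _ ≫ specRes A ≫ ξ.sect PUnit.unit ≫ e.iso.hom = _
        rw [← Category.assoc (specRes A), ← ξ.pt_sect PUnit.unit, Category.assoc P, e.i_hom]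
      · rw [Iso.trans_hom, ← Category.assoc]
        exact t2

end Forget

end GrothLib.EllGroup15
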