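import Groth.Agent.Lib.EllGroup15.Statement
import Groth.Agent.Lib.EllGroup15.AbelIso

/-!
# Invertible modules of fibre degree zero come from sections
-/

set_option autoImplicit false
set_option linter.all false
set_option backward.isDefEq.respectTransparency false
set_option maxHeartbeats 2000000

universe u

open CategoryTheory CategoryTheory.Limits AlgebraicGeometry Opposite
open GrothLib.Cube (Pic clsMod pull HasCls)

noncomputable section

namespace GrothLib.EllGroup15

open GrothLib.SmCurveFam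

variable {E S : Scheme.{u}} {f : E ⟶ S}

variable [IsProper f] [SmoothOfRelativeDimension 1 f]

theorem existsUnique_section_of_deg_zero (hc : GeometricallyConnected f)
    (hg : ∀ s : S, @FGA.eulerCharLE (S.residueField s) _ (f.fiber s) (f.fiberOverSpecResidueField s)
      (Coh.structureModule (f.fiber s)) 1 = 0)
    (σ : S ⟶ E) (hσ : σ ≫ f = 𝟙 S) (L : E.Modules) (hL : PicF.IsInvertible L)
    (hL0 : ∀ s : S, @FGA.eulerCharLE (S.residueField s) _ (f.fiber s) (f.fiberOverSpecResidueField s)
      ((Scheme.Modules.pullback (f.fiberι s)).obj L) 1 = 0) :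
    ∃! P : S ⟶ E, P ≫ f = 𝟙 S ∧ ∃ M : S.Modules, PicF.IsInvertible M ∧
      Nonempty (CohB1.tensorMod L (ClSub.idealMod P.ker) ≅
        CohB1.tensorMod (ClSub.idealMod σ.ker) ((Scheme.Modules.pullback f).obj M)) := by
  have hf := isGenusOne_of_eulerChar f hc hg
  haveI := hf.smooth
  haveI := hf.conn
  have h0 : ∀ y, fdeg f L y = 0 := fun y => by
    letI : (f.fiber y).Over (Spec (CommRingCat.of (S.residueField y))) := ⟨f.fiberToSpecResidueField y⟩
    haveI : IsProper (f.fiber y ↘ Spec (CommRingCat.of (S.residueField y))) := (fiber_props f y).1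
    have hLy : PicF.IsInvertible (CohIII.fiberMod f L y) := Ample.isInvertible_pullback _ hL
    haveI := InvExt.isQuasicoherent_of_isInvertible hLy
    haveI : (Coh.structureModule (f.fiber y)).IsQuasicoherent :=
      InvExt.isQuasicoherent_of_isInvertible Euler.isInvertible_structure
    have h1 := hg y
    have h2 := hL0 y
    simp only [FGA.eulerCharLE, Finset.sum_range_succ, Finset.sum_range_zero] at h1 h2
    show Curv2.euler (S.residueField y) (f.fiber y) (CohIII.fiberMod f L y) -
      (1 : ℕ) * Curv2.euler (S.residueField y) (f.fiber y) (Coh.structureModule (f.fiber y)) = 0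
    rw [Euler.euler_eq_sub (k := S.residueField y) (hf.dim y).le (CohIII.fiberMod f L y),
      Euler.euler_eq_sub (k := S.residueField y) (hf.dim y).le (Coh.structureModule (f.fiber y))]
    norm_num at h1 h2 ⊢
    simp only [CohIII.fiberMod] at *
    omega
  obtain ⟨hO, hOc⟩ := Dual.hasCls_rep (secCl hf σ hσ)⁻¹
  have hL' := Ample.isInvertible_tensorMod hL hO
  have hd : ∀ y, fdeg f (CohB1.tensorMod L (Dual.rep (secCl hf σ hσ)⁻¹)) y = 1 := fun y => by
    rw [fdeg_mul hf hL hO hL' (Cube.clsMod_tensorMod hL hO) y, h0 y, zero_add]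
    exact deg_fibre_eq_one f hf.dim σ hσ (hf.isInvertible_ideal σ hσ) hO
      ((Cube.clsMod_eq_one_iff (Ample.isInvertible_tensorMod hO (hf.isInvertible_ideal σ hσ))).1 (by
        rw [Cube.clsMod_tensorMod hO (hf.isInvertible_ideal σ hσ), hOc, secCl, inv_mul_cancel])) y
  obtain ⟨x, hx, hIx, n, hn⟩ := exists_section_class f hf.dim hf.genus σ hσ hL' hd
  rw [Cube.clsMod_tensorMod hL hO, hOc] at hn
  have hIσ := hf.isInvertible_ideal σ hσ
  have key : ∀ (P : S ⟶ E) (hP : P ≫ f = 𝟙 S) {M : S.Modules} (hM : PicF.IsInvertible M),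
      Nonempty (CohB1.tensorMod L (ClSub.idealMod P.ker) ≅
        CohB1.tensorMod (ClSub.idealMod σ.ker) ((Scheme.Modules.pullback f).obj M)) ↔
      clsMod hL * secCl hf P hP = secCl hf σ hσ * pull f (clsMod hM) := fun P hP M hM => by
    have hIP := hf.isInvertible_ideal P hP
    rw [← Cube.clsMod_eq_iff (Ample.isInvertible_tensorMod hL hIP)
      (Ample.isInvertible_tensorMod hIσ (Ample.isInvertible_pullback f hM)), Cube.clsMod_tensorMod hL hIP,
      Cube.clsMod_tensorMod hIσ (Ample.isInvertible_pullback f hM), Cube.clsMod_pullback f hM]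
    rfl
  obtain ⟨hM, hMc⟩ := Dual.hasCls_rep n
  have hn' : clsMod hL * secCl hf x hx = secCl hf σ hσ * pull f n := by
    rw [mul_inv_eq_iff_eq_mul] at hn
    rw [hn]
    show (secCl hf x hx)⁻¹ * pull f n * secCl hf σ hσ * secCl hf x hx = _
    rw [mul_right_comm _ (secCl hf σ hσ), mul_right_comm _ (pull f n), inv_mul_cancel, one_mul, mul_comm]
  refine ⟨x, ⟨hx, Dual.rep n, hM, (key x hx hM).2 (by rw [hMc]; exact hn')⟩, ?_⟩
  rintro P ⟨hP, M, hM', hi⟩
  have h := (key P hP hM').1 hi
  refine section_unique_class f hf.dim hf.genus P x hP hx (hf.isInvertible_ideal P hP) (hf.isInvertible_ideal x hx)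
    (clsMod hM' * n⁻¹) ?_
  show secCl hf P hP = secCl hf x hx * pull f (clsMod hM' * n⁻¹)
  generalize secCl hf P hP = p, secCl hf x hx = q, secCl hf σ hσ = o, clsMod hL = l at h hn' ⊢
  rw [map_mul, map_inv]
  have hp : p = l⁻¹ * (o * pull f (clsMod hM')) := eq_inv_mul_iff_mul_eq.2 h
  have hq : q = l⁻¹ * (o * pull f n) := eq_inv_mul_iff_mul_eq.2 hn'
  rw [hp, hq]
  generalize pull f (clsMod hM') = m, pull f n = r
  calc l⁻¹ * (o * m) = l⁻¹ * (o * m) * (r * r⁻¹) := by rw [mul_inv_cancel, mul_one]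
    _ = l⁻¹ * (o * r) * (m * r⁻¹) := by ac_rfl

end GrothLib.EllGroup15
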