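import Groth.Agent.Lib.Cube.AbScheme
import Groth.Agent.Lib.AbMul.Etale
import Groth.Prelude.Def_AgPol

/-!
# Points of exact order on an abelian scheme
-/

set_option autoImplicit false
set_option linter.all false
set_option backward.isDefEq.respectTransparency false
set_option maxHeartbeats 2000000

universe u

open CategoryTheory CategoryTheory.Limits AlgebraicGeometry Opposite
open CategoryTheory.MonoidalCategory CategoryTheory.CartesianMonoidalCategory
open scoped MonObj

noncomputable section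

namespace GrothLib.EllGroup15

variable {S : Scheme.{u}} (E : Over S) [GrpObj E]

/-- The kernel of the `n`-th power map. -/
abbrev torsSch (n : ℕ) : Scheme.{u} := pullback ((𝟙 E : E ⟶ E) ^ n).left η[E].left

theorem torsSch_comp (n : ℕ) :
    pullback.fst ((𝟙 E : E ⟶ E) ^ n).left η[E].left ≫ E.hom = pullback.snd ((𝟙 E : E ⟶ E) ^ n).left η[E].left := by
  rw [← Over.w ((𝟙 E : E ⟶ E) ^ n), pullback.condition_assoc, Over.w η[E]]
  exact Category.comp_id _

theorem exists_lift_torsSch {n : ℕ} {T : Over S} (a : T ⟶ E) (ha : a ^ n = 1) :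
    ∃ t : T.left ⟶ torsSch E n, t ≫ pullback.fst _ _ = a.left ∧ t ≫ pullback.snd _ _ = T.hom := by
  refine ⟨pullback.lift a.left T.hom ?_, pullback.lift_fst _ _ _, pullback.lift_snd _ _ _⟩
  rw [← Over.comp_left, MonObj.comp_pow, Category.comp_id, ha, Hom.one_def, Over.comp_left]
  rfl

theorem pow_eq_one_of_factor {n : ℕ} {T : Over S} (a : T ⟶ E) (t : T.left ⟶ torsSch E n)
    (h1 : t ≫ pullback.fst _ _ = a.left) : a ^ n = 1 := by
  have h2 : t ≫ pullback.snd _ _ = T.hom := by
    rw [← torsSch_comp, ← Category.assoc, h1, Over.w a]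
  rw [show a ^ n = a ≫ (𝟙 E : E ⟶ E) ^ n by rw [MonObj.comp_pow, Category.comp_id], Hom.one_def]
  apply Over.OverMorphism.ext
  rw [Over.comp_left, Over.comp_left, ← h1, Category.assoc, pullback.condition, ← Category.assoc, h2]
  rfl

variable [IsCommMonObj E] [IsProper E.hom] [Smooth E.hom] [GeometricallyConnected E.hom]

theorem isFinite_etale_torsSch {n : ℕ} (hu : IsUnit (n : Γ(S, ⊤))) :
    IsFinite (pullback.snd ((𝟙 E : E ⟶ E) ^ n).left η[E].left) ∧
      Etale (pullback.snd ((𝟙 E : E ⟶ E) ^ n).left η[E].left) := by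
  obtain ⟨h1, h2, -⟩ := AbMul.isFinite_etale_surjective_pow_relative E (n : ℤ) (by exact_mod_cast hu)
  rw [zpow_natCast] at h1 h2
  exact ⟨MorphismProperty.pullback_snd (P := @IsFinite) _ _ h1, MorphismProperty.pullback_snd (P := @Etale) _ _ h2⟩

/-- **The points of exact order `N` form a finite étale scheme.** -/
theorem exists_exactOrder (N : ℕ) (hN : 1 ≤ N) (hNu : IsUnit (N : Γ(S, ⊤))) :
    ∃ (Z : Over S) (P : Z ⟶ E), IsFinite Z.hom ∧ Etale Z.hom ∧
      (P ^ N = 1 ∧ ∀ (Ω : Type u) [Field Ω] [IsAlgClosed Ω] (t : Spec (CommRingCat.of Ω) ⟶ Z.left),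
        orderOf ((Over.homMk t rfl : Over.mk (t ≫ Z.hom) ⟶ Z) ≫ P) = N) ∧
      ∀ (T : Over S) (Q : T ⟶ E), Q ^ N = 1 →
        (∀ (Ω : Type u) [Field Ω] [IsAlgClosed Ω] (t : Spec (CommRingCat.of Ω) ⟶ T.left),
          orderOf ((Over.homMk t rfl : Over.mk (t ≫ T.hom) ⟶ T) ≫ Q) = N) →
        ∃! v : T ⟶ Z, v ≫ P = Q := by
  classical
  let X := torsSch E N
  let q : X ⟶ S := pullback.snd _ _
  let p : X ⟶ E.left := pullback.fst _ _
  obtain ⟨hfin, het⟩ := isFinite_etale_torsSch E hNu
  let T₀ : Over S := Over.mk q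
  let P₀ : T₀ ⟶ E := Over.homMk p (torsSch_comp E N)
  have hP₀ : P₀ ^ N = 1 := pow_eq_one_of_factor E P₀ (𝟙 _) (Category.id_comp _)
  -- the proper divisors
  let D := {d : ℕ // d ∣ N ∧ d < N}
  haveI : Finite D := Finite.of_injective (fun d : D => (⟨d.1, d.2.2⟩ : Fin N)) fun a b h =>
    Subtype.ext (congrArg Fin.val h)
  have hsub : ∀ d : D, ∃ j : torsSch E d.1 ⟶ X, j ≫ p = pullback.fst _ _ ∧ IsOpenImmersion j ∧ IsClosedImmersion j := by
    rintro ⟨d, ⟨e, he⟩, hd⟩
    have hdu : IsUnit (d : Γ(S, ⊤)) := by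
      rw [he, Nat.cast_mul] at hNu
      exact isUnit_of_mul_isUnit_left hNu
    obtain ⟨hfd, hed⟩ := isFinite_etale_torsSch E hdu
    let Td : Over S := Over.mk (pullback.snd ((𝟙 E : E ⟶ E) ^ d).left η[E].left)
    let Pd : Td ⟶ E := Over.homMk (pullback.fst _ _) (torsSch_comp E d)
    have hPd : Pd ^ N = 1 := by
      rw [he, pow_mul, pow_eq_one_of_factor E Pd (𝟙 _) (Category.id_comp _), one_pow]
    obtain ⟨j, hj1, hj2⟩ := exists_lift_torsSch E Pd hPd
    refine ⟨j, hj1, ?_⟩
    haveI : IsClosedImmersion η[E].left := by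
      haveI : IsClosedImmersion (η[E].left ≫ E.hom) := by rw [Over.w η[E]]; exact inferInstanceAs (IsClosedImmersion (𝟙 S))
      exact IsClosedImmersion.of_comp _ E.hom
    haveI : IsClosedImmersion (pullback.fst ((𝟙 E : E ⟶ E) ^ d).left η[E].left) := inferInstance
    haveI : IsClosedImmersion (j ≫ p) := by
      show IsClosedImmersion (j ≫ pullback.fst _ _)
      rw [hj1]
      exact inferInstanceAs (IsClosedImmersion (pullback.fst ((𝟙 E : E ⟶ E) ^ d).left η[E].left))
    haveI hjc : IsClosedImmersion j := IsClosedImmersion.of_comp j p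
    haveI : Etale (j ≫ q) := by
      show Etale (j ≫ pullback.snd _ _)
      rw [hj2]
      exact hed
    haveI : Etale q := het
    haveI : Etale j := Etale.of_comp j q
    exact ⟨IsOpenImmersion.of_flat_of_mono j, hjc⟩
  choose j hjp hjo hjc using hsub
  let C : Set X := ⋃ d : D, Set.range (j d)
  have hCc : IsClosed C := isClosed_iUnion_of_finite fun d => by
    haveI := hjc d
    exact (j d).isClosedEmbedding.isClosed_range
  have hCo : IsOpen C := isOpen_iUnion fun d => by
    haveI := hjo d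
    exact (j d).isOpenEmbedding.isOpen_range
  let U : X.Opens := ⟨Cᶜ, hCc.isOpen_compl⟩
  have horder : ∀ {T : Over S} (a : T ⟶ E), a ^ N = 1 → ∀ {Ω : Type u} [Field Ω], ∀ (h : T.left = Spec (CommRingCat.of Ω))
      (t : T.left ⟶ X), t ≫ p = a.left → (orderOf a = N ↔ Set.range t ⊆ Cᶜ) := by
    intro T a ha Ω _ h t ht
    constructor
    · intro ho z hz hzC
      obtain ⟨d, hd⟩ := Set.mem_iUnion.1 hzC
      haveI := hjo d
      haveI : Subsingleton ↥T.left := by rw [h]; exact inferInstanceAs (Subsingleton (PrimeSpectrum Ω))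
      have hr : Set.range t ⊆ Set.range (j d) := by
        rintro _ ⟨w, rfl⟩
        obtain ⟨w', rfl⟩ := hz
        rwa [Subsingleton.elim w w']
      let s : T.left ⟶ torsSch E d.1 := IsOpenImmersion.lift (j d) t hr
      have hs : a ^ d.1 = 1 := pow_eq_one_of_factor E a s (by
        rw [← hjp d, ← Category.assoc, IsOpenImmersion.lift_fac, ht])
      have := orderOf_dvd_of_pow_eq_one hs
      rw [ho] at this
      exact absurd d.2.2 (not_lt.2 (Nat.le_of_dvd (Nat.pos_of_dvd_of_pos d.2.1 hN) this))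
    · intro hr
      by_contra hne
      have hdvd := orderOf_dvd_of_pow_eq_one ha
      let d : D := ⟨orderOf a, hdvd, lt_of_le_of_ne (Nat.le_of_dvd hN hdvd) hne⟩
      obtain ⟨s, hs1, hs2⟩ := exists_lift_torsSch E a (pow_orderOf_eq_one a)
      have hsj : s ≫ j d = t := by
        refine pullback.hom_ext ?_ ?_
        · rw [Category.assoc]
          exact (congrArg (s ≫ ·) (hjp d)).trans (hs1.trans ht.symm)
        · rw [Category.assoc, ← torsSch_comp, ← Category.assoc (j d)]
          refine ((congrArg (fun z => s ≫ z ≫ E.hom) (hjp d)).trans ?_)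
          rw [← Category.assoc, hs1, ← ht, Category.assoc, torsSch_comp]
      haveI : Nonempty ↥T.left := by rw [h]; exact inferInstanceAs (Nonempty (PrimeSpectrum Ω))
      obtain ⟨w⟩ := ‹Nonempty ↥T.left›
      refine hr ⟨w, rfl⟩ (Set.mem_iUnion.2 ⟨d, ⟨s w, ?_⟩⟩)
      rw [← Scheme.Hom.comp_apply, hsj]
  haveI : IsClosedImmersion U.ι := by
    refine .of_isPreimmersion _ ?_
    rw [Scheme.Opens.range_ι]
    exact hCo.isClosed_compl
  haveI : IsFinite q := hfin
  haveI : Etale q := het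
  refine ⟨Over.mk (U.ι ≫ q), (Over.homMk U.ι rfl : Over.mk (U.ι ≫ q) ⟶ T₀) ≫ P₀, inferInstanceAs (IsFinite (U.ι ≫ q)),
    inferInstanceAs (Etale (U.ι ≫ q)), ⟨?_, fun Ω _ _ t => ?_⟩, fun T Q hQ hQo => ?_⟩
  · rw [← MonObj.comp_pow, hP₀, MonObj.comp_one]
  · refine (horder _ ?_ rfl (t ≫ U.ι) ?_).2 ?_
    · rw [← MonObj.comp_pow, ← MonObj.comp_pow, hP₀, MonObj.comp_one, MonObj.comp_one]
    · simp [P₀]
    · rintro _ ⟨w, rfl⟩
      rw [Scheme.Hom.comp_apply]
      exact ((U.range_ι).le ⟨t w, rfl⟩)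
  obtain ⟨s, hs1, hs2⟩ := exists_lift_torsSch E Q hQ
  have hr : Set.range s ⊆ Set.range U.ι := by
    rintro _ ⟨w, rfl⟩
    rw [Scheme.Opens.range_ι]
    let Ω := AlgebraicClosure (T.left.residueField w)
    let t : Spec (CommRingCat.of Ω) ⟶ T.left :=
      Spec.map (CommRingCat.ofHom (algebraMap (T.left.residueField w) Ω)) ≫ T.left.fromSpecResidueField w
    have h1 := (horder ((Over.homMk t rfl : Over.mk (t ≫ T.hom) ⟶ T) ≫ Q)
      (by rw [← MonObj.comp_pow, hQ, MonObj.comp_one]) rfl (t ≫ s) (by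
        simp [hs1]
        exact congrArg (t ≫ ·) hs1)).1 (hQo Ω t)
    have hw : t (IsLocalRing.closedPoint Ω) = w := by
      have := Set.mem_range_self (f := (T.left.fromSpecResidueField w).base)
        ((Spec.map (CommRingCat.ofHom (algebraMap (T.left.residueField w) Ω))).base (IsLocalRing.closedPoint Ω))
      rwa [Scheme.range_fromSpecResidueField, Set.mem_singleton_iff] at this
    refine h1 ⟨(IsLocalRing.closedPoint Ω : Spec (CommRingCat.of Ω)), ?_⟩
    exact (Scheme.Hom.comp_apply t s _).trans (congrArg (fun z => s z) hw)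
  refine ⟨Over.homMk (IsOpenImmersion.lift U.ι s hr) ?_, ?_, fun v hv => ?_⟩
  · show IsOpenImmersion.lift U.ι s hr ≫ U.ι ≫ q = T.hom
    rw [← Category.assoc, IsOpenImmersion.lift_fac]
    exact hs2
  · apply Over.OverMorphism.ext
    show IsOpenImmersion.lift U.ι s hr ≫ U.ι ≫ p = Q.left
    rw [← Category.assoc, IsOpenImmersion.lift_fac]
    exact hs1
  · apply Over.OverMorphism.ext
    show v.left = IsOpenImmersion.lift U.ι s hr
    rw [← cancel_mono U.ι, IsOpenImmersion.lift_fac]
    refine pullback.hom_ext ?_ ?_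
    · rw [Category.assoc]
      exact (congrArg CommaMorphism.left hv).trans hs1.symm
    · rw [Category.assoc]
      exact (Over.w v).trans hs2.symm

end GrothLib.EllGroup15
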