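import Groth.Agent.S14341
import Groth.Agent.Lib.SmCurveFam.Field
import Groth.Agent.Lib.CurveProd28.Basic
import Groth.Agent.Lib.BaseChange.AlgClosedIn
import Groth.Agent.Lib.Cube.DivisorSection

/-!
# Invertible modules of degree one on a curve of genus one
-/

set_option autoImplicit false
set_option linter.all false
set_option backward.isDefEq.respectTransparency false
set_option maxHeartbeats 1000000

universe u

open CategoryTheory CategoryTheory.Limits AlgebraicGeometry TopologicalSpace
open GrothLib.Cube (clsMod)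

noncomputable section

namespace GrothLib.EllGroup15

variable (k : Type u) [Field k] {X : Scheme.{u}} [X.Over (Spec (CommRingCat.of k))]
  [IsProper (X ↘ Spec (CommRingCat.of k))] [Smooth (X ↘ Spec (CommRingCat.of k))]
  [GeometricallyConnected (X ↘ Spec (CommRingCat.of k))]
  (hX : topologicalKrullDim X = 1) (hg : Curv2.genus k X = 1)

include hX hg in
/-- Degree one in genus one: one section, no higher cohomology. -/
theorem cohom_deg_one {L : X.Modules} (hL : PicF.IsInvertible L) (hd : Curv2.deg k X L 1 = 1) :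
    Subsingleton (Coh.HH X L 1) ∧ Module.finrank k (Coh.HH X L 0) = 1 := by
  obtain ⟨hint, h0⟩ := CurveMult.OmegaField.integral_and_h0 k X
  haveI := CurveRR.regCurve_of_smooth (X ↘ Spec (CommRingCat.of k)) hX
  refine ⟨SmCurveFam.subsingleton_H1_of_deg_gt k h0 hL (by omega), ?_⟩
  have hK := CurveRR.isFunctionField k h0
  have hG : FunFld.genus k X.functionField = 1 := (CurveRR.genus_eq k h0).symm.trans hg
  obtain ⟨C, hC⟩ := FunFld.exists_isCanonical hK
  obtain ⟨D, -, hD, hh, -⟩ := CurveRR.exists_divisor k h0 hC hL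
  rw [hh]
  have hDd : D.deg = 1 := by omega
  have h := FunFld.ell_eq_of_deg_ge hK (D := D) (by rw [hG, hDd]; norm_num)
  rw [hG, hDd] at h
  omega

include hX hg in
/-- An invertible module of degree one is the bundle of a rational point. -/
theorem exists_point_deg_one (e : Spec (CommRingCat.of k) ⟶ X) (he : e ≫ (X ↘ Spec (CommRingCat.of k)) = 𝟙 _)
    {L : X.Modules} (hL : PicF.IsInvertible L) (hd : Curv2.deg k X L 1 = 1) :
    ∃ x : Spec (CommRingCat.of k) ⟶ X, x ≫ (X ↘ Spec (CommRingCat.of k)) = 𝟙 _ ∧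
      ClSub.IsInverseOf L (ClSub.idealMod x.ker) := by
  obtain ⟨hint, h0⟩ := CurveMult.OmegaField.integral_and_h0 k X
  let O := e (IsLocalRing.closedPoint k)
  have hO : IsClosed ({O} : Set X) := CurveProd28.isClosed_pt k e he
  have hOr : Function.Bijective (Curv2.resMap k X O) := CurveMult.bijective_resMap_of_section k e he _
  haveI := CurveProd28.isClosedImmersion_pt k e he
  have hke : e.ker = Scheme.IdealSheafData.vanishingIdeal (⟨{O}, hO⟩ : Closeds X) :=
    (CurveProd28.ker_pt k e he).trans (CurveMult.ker_fromSpecResidueField hO)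
  have hI := CurveProd28.isInvertible_pt k hX e he
  let L₀ := CohB1.tensorMod L (ClSub.idealMod e.ker)
  have hL₀ : PicF.IsInvertible L₀ := Ample.isInvertible_tensorMod hL hI
  have hd₀ : Curv2.deg k X L₀ 1 = 0 := by
    have h := CurveMult.deg_tensorMod k hX.le hL hI
    rw [hd, CurveProd28.deg_idealMod_pt k hX e he] at h
    simpa using h
  obtain ⟨⟨P, hPc, hPr⟩, ⟨i⟩, -⟩ := Groth.Agent.S14341.result k X hX hg O hO hOr L₀ hL₀ hd₀
  let χ : X.residueField P ⟶ CommRingCat.of k :=
    CommRingCat.ofHom (RingEquiv.ofBijective (Curv2.resMap k X P) hPr).symm.toRingHom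
  let x : Spec (CommRingCat.of k) ⟶ X := Spec.map χ ≫ X.fromSpecResidueField P
  have hx : x ≫ (X ↘ Spec (CommRingCat.of k)) = 𝟙 _ := by
    rw [Category.assoc, BaseChange.fromSpecResidueField_over, ← Spec.map_comp, ← Spec.map_id]
    congr 1
    ext a
    exact (RingEquiv.ofBijective (Curv2.resMap k X P) hPr).symm_apply_apply a
  refine ⟨x, hx, ?_⟩
  have hxP : x (IsLocalRing.closedPoint k) = P :=
    X.fromSpecResidueField_apply P ((Spec.map χ) (IsLocalRing.closedPoint k))
  have hkx : x.ker = Scheme.IdealSheafData.vanishingIdeal (⟨{P}, hPc⟩ : Closeds X) := by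
    rw [CurveProd28.ker_pt k x hx, CurveMult.ker_fromSpecResidueField (CurveProd28.isClosed_pt k x hx)]
    congr 1
    exact Closeds.ext (congrArg (fun q => ({q} : Set X)) hxP)
  have hJ := CurveProd28.isInvertible_pt k hX x hx
  have hLJ := Ample.isInvertible_tensorMod hL hJ
  have i' : CohB1.tensorMod L₀ (ClSub.idealMod x.ker) ≅ ClSub.idealMod e.ker := by
    rw [hkx, hke]; exact i
  have h1 : clsMod hL₀ * clsMod hJ = clsMod hI := by
    rw [← Cube.clsMod_tensorMod hL₀ hJ]
    exact (Cube.clsMod_eq_iff _ _).2 ⟨i'⟩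
  rw [Cube.clsMod_tensorMod hL hI, mul_right_comm, mul_eq_right] at h1
  exact (Cube.clsMod_eq_one_iff hLJ).1 ((Cube.clsMod_tensorMod hL hJ).trans h1)

end GrothLib.EllGroup15
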