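import Groth.Agent.Lib.EllGroup15.ZeroIdeal
import Groth.Agent.Lib.EllGroup15.Field
import Groth.Agent.Lib.SmCurveFam.DegreeOneGen
import Groth.Agent.Lib.SmCurveFam.Push
import Groth.Agent.Lib.RelDiv.Smooth
import Groth.Agent.Lib.Poincare.DualRel
import Groth.Agent.Lib.ProjFormula.Iso
import Groth.Agent.Lib.FibreFlat.Fibrewise
import Groth.Agent.Lib.GrpdQuot.FiberMono
import Groth.Agent.Lib.Cube.Square
import Groth.Agent.S8848

/-!
# Invertible modules of degree one on a family of curves of genus one come from sections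
-/

set_option autoImplicit false
set_option linter.all false
set_option backward.isDefEq.respectTransparency false
set_option maxHeartbeats 2000000

universe u

open CategoryTheory CategoryTheory.Limits AlgebraicGeometry TopologicalSpace Opposite
open GrothLib.InvExt (mres fres IsGen)
open GrothLib.Cube (Pic clsMod pull HasCls hasCls_clsMod)

noncomputable section

namespace GrothLib.EllGroup15

open GrothLib.SmCurveFam

variable {C S : Scheme.{u}} (f : C ⟶ S)

/-- Canonical sections pull back. -/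
theorem isCanSec_pullback {X Z : Scheme.{u}} (g : Z ⟶ X) {I : X.IdealSheafData} {L : X.Modules}
    (hL : PicF.IsInvertible L) {s : Γ(L, ⊤)} (hs : IsCanSec I L s) :
    IsCanSec (I.comap g) ((Scheme.Modules.pullback g).obj L) (BCCoh.pullRes g L ⊤ ⊤ le_top s) := fun p => by
  obtain ⟨T, e, r, hpT, he, hr, hI⟩ := hs (g p)
  obtain ⟨V, hpV, hV⟩ := GrothLib.BlowUp.exists_affine_mem_le (W := g ⁻¹ᵁ T.1) (x := p) hpT
  refine ⟨V, BCCoh.pullRes g L T.1 V.1 hV e, g.appLE T.1 V.1 hV r, hpV, Seesaw26.isGen_pullRes g hL he V.1 hV, ?_, ?_⟩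
  · rw [← BCCoh.pullRes_smul, ← hr]
    exact BCCoh.pullRes_res g L (le_top : T.1 ≤ ⊤) le_top hV le_top s
  · rw [GrothLib.BlowUp.ideal_comap_eq_map I g T V hV, hI, Ideal.map_span, Set.image_singleton]

/-- A canonical section stays one after a unit scalar. -/
theorem isCanSec_smul {X : Scheme.{u}} {I : X.IdealSheafData} {L : X.Modules} {s : Γ(L, ⊤)} (hs : IsCanSec I L s)
    {v : Γ(X, ⊤)} (hv : IsUnit v) : IsCanSec I L (v • s) := fun p => by
  obtain ⟨T, e, r, hpT, he, hr, hI⟩ := hs p
  refine ⟨T, e, fres X (le_top : T.1 ≤ ⊤) v * r, hpT, he, by rw [InvExt.mres_smul, hr, mul_smul], ?_⟩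
  rw [hI, Ideal.span_singleton_mul_left_unit (hv.map (X.presheaf.map (homOfLE (le_top : T.1 ≤ ⊤)).op).hom)]

section Deg

/-- Fibre modules of a module twisted from the base. -/
theorem clsMod_fiber_twist {M N : C.Modules} (hM : PicF.IsInvertible M) (hN : PicF.IsInvertible N)
    {n : Pic S} (h : clsMod hM = clsMod hN * pull f n) (y : S) :
    Nonempty (CohIII.fiberMod f M y ≅ CohIII.fiberMod f N y) := by
  refine (Cube.clsMod_eq_iff (Ample.isInvertible_pullback (f.fiberι y) hM)
    (Ample.isInvertible_pullback (f.fiberι y) hN)).1 ?_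
  rw [Cube.clsMod_pullback _ hM, Cube.clsMod_pullback _ hN, h, map_mul, Cube.pull_comp, f.fiber_fac y,
    ← Cube.pull_comp, show pull (S.fromSpecResidueField y) n = 1 from
      Cube.pic_spec_field_eq_one (F := S.residueField y) _, map_one, mul_one]

end Deg

variable [IsProper f] [Smooth f] [GeometricallyConnected f]
  (hdim : ∀ s : S, topologicalKrullDim ↥(f.fiber s) = 1)
  (hg : ∀ s : S, CohIII.fiberRank f (Coh.structureModule C) 1 s = 1)

/-- The degree on a fibre. -/
def fdeg (L : C.Modules) (y : S) : ℤ :=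
  letI : (f.fiber y).Over (Spec (CommRingCat.of (S.residueField y))) := ⟨f.fiberToSpecResidueField y⟩
  Curv2.deg (S.residueField y) (f.fiber y) (CohIII.fiberMod f L y) 1

include hdim hg in
/-- Cohomology of a bundle of fibre degree one. -/
theorem cohom_fibre {L : C.Modules} (hL : PicF.IsInvertible L) (hd : ∀ y, fdeg f L y = 1) (y : S) :
    CohIII.fiberRank f L 1 y = 0 ∧ CohIII.fiberRank f L 0 y = 1 := by
  obtain ⟨h1, h2, h3, -⟩ := fiber_props f y
  letI : (f.fiber y).Over (Spec (CommRingCat.of (S.residueField y))) := ⟨f.fiberToSpecResidueField y⟩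
  haveI : IsProper (f.fiber y ↘ Spec (CommRingCat.of (S.residueField y))) := h1
  haveI : Smooth (f.fiber y ↘ Spec (CommRingCat.of (S.residueField y))) := h2
  haveI : GeometricallyConnected (f.fiber y ↘ Spec (CommRingCat.of (S.residueField y))) := h3
  have hgy : Curv2.genus (S.residueField y) (f.fiber y) = 1 := (fiberRank_structure f 1 y).symm.trans (hg y)
  obtain ⟨a, b⟩ := cohom_deg_one (S.residueField y) (hdim y) hgy (Ample.isInvertible_pullback _ hL) (hd y)
  refine ⟨?_, ?_⟩
  · rw [(fiberRank_congr f L 1 y (Iso.refl _)).1]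
    exact @Module.finrank_zero_of_subsingleton _ _ _ _ _ _ a
  · rw [(fiberRank_congr f L 0 y (Iso.refl _)).1]
    exact b

include hdim hg in
/-- Base change in degree zero holds for a bundle of fibre degree one. -/
theorem goodAll_of_deg_one {L : C.Modules} (hL : PicF.IsInvertible L) (hd : ∀ y, fdeg f L y = 1) (y : S) :
    BCCrit.GoodAll f L ((0 : ℕ) : ℤ) y := by
  haveI : L.IsQuasicoherent := InvExt.isQuasicoherent_of_isInvertible hL
  haveI : Coh.IsQCoh L := ‹L.IsQuasicoherent›
  have := (BCCrit.goodAll_of_fiberRank_eq_zero (f := f) (F := L) 1 y (cohom_fibre f hdim hg hL hd y).1).2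
  rwa [show ((1 : ℕ) : ℤ) - 1 = ((0 : ℕ) : ℤ) by norm_num] at this

include hdim hg in
theorem isInvertible_push_deg_one {L : C.Modules} (hL : PicF.IsInvertible L) (hd : ∀ y, fdeg f L y = 1) :
    PicF.IsInvertible ((Scheme.Modules.pushforward f).obj L) := fun y => by
  haveI := InvExt.isQuasicoherent_of_isInvertible hL
  haveI : Coh.IsQCoh L := InvExt.isQuasicoherent_of_isInvertible hL
  have hFP : CohB1.IsFP L := LocFree8.isFP_of_isFinLocFree L (Euler.isFinLocFree_of_isInvertible hL)
  obtain ⟨U, n, hy, ⟨φ⟩, hn⟩ := BCCrit.exists_free_near0 hFP (Seesaw26.isFlatOver_of_isInvertible f hL) y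
    (goodAll_of_deg_one f hdim hg hL hd y)
  obtain rfl : n = 1 := (hn y hy).symm.trans (cohom_fibre f hdim hg hL hd y).2
  exact ⟨U, hy, ⟨φ ≪≫ coproductUniqueIso fun _ : Fin 1 => Coh.structureModule (↑U)⟩⟩

include hdim hg in
/-- A generator of the direct image does not vanish on any fibre. -/
theorem pullRes_gen_ne_zero {L : C.Modules} (hL : PicF.IsInvertible L) (hd : ∀ y, fdeg f L y = 1)
    {σ : Γ((Scheme.Modules.pushforward f).obj L, ⊤)} (hσ : IsGen ((Scheme.Modules.pushforward f).obj L) ⊤ σ) (y : S) :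
    BCCoh.pullRes (f.fiberι y) L (f ⁻¹ᵁ ⊤) (f.fiberToSpecResidueField y ⁻¹ᵁ ⊤) le_top σ ≠ 0 := by
  intro h0
  haveI : L.IsQuasicoherent := InvExt.isQuasicoherent_of_isInvertible hL
  haveI : Coh.IsQCoh L := ‹L.IsQuasicoherent›
  let κ := S.residueField y
  let fs := f.fiberToSpecResidueField y
  haveI : Subsingleton ↥(Spec κ) := inferInstanceAs (Subsingleton (PrimeSpectrum κ))
  let b := CohBC.bc0 f (S.fromSpecResidueField y) fs (f.fiberι y) (f.fiber_fac y) L
  let N := (Scheme.Modules.pushforward f).obj L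
  have he : (⊤ : (Spec κ).Opens) ≤ S.fromSpecResidueField y ⁻¹ᵁ (⊤ : S.Opens) := le_top
  have hepi : Epi b := (BCCrit.goodAll_iff_epi0 (LocFree8.isFP_of_isFinLocFree _ (Euler.isFinLocFree_of_isInvertible hL))
    (Seesaw26.isFlatOver_of_isInvertible f hL) y).1 (goodAll_of_deg_one f hdim hg hL hd y)
  have hsurj := (BCCrit.epi_iff_surjective b (IsLocalRing.closedPoint κ)).1 hepi
  have hgen := Seesaw26.isGen_pullRes (S.fromSpecResidueField y)
    (isInvertible_push_deg_one f hdim hg hL hd) hσ ⊤ he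
  have hzero : ∀ w : Γ(CohIII.fiberMod f L y, fs ⁻¹ᵁ (⊤ : (Spec κ).Opens)), w = 0 := fun w => by
    obtain ⟨v, hv⟩ := hsurj w
    obtain ⟨a, ha⟩ := hgen.exists_smul_eq le_rfl v
    rw [InvExt.mres_self] at ha
    rw [← hv, ha]
    refine (Ample.app_smul b a _).trans ?_
    rw [BCCrit.bc0_pullRes (f.fiber_fac y) L ⊤ ⊤ he le_top σ, h0, smul_zero]
  have hr := (cohom_fibre f hdim hg hL hd y).2
  let N' := CohIII.fiberMod f L y
  let eH : Coh.HH (f.fiber y) N' 0 ≃+ Γ(N', (⊤ : (f.fiber y).Opens)) :=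
    Sheaf.H.equiv₀ (Coh.toAb N') (T := (⊤ : (f.fiber y).Opens)) isTerminalTop
  haveI : Subsingleton (Coh.HH (f.fiber y) N' 0) :=
    ⟨fun p q => eH.injective ((hzero _).trans (hzero _).symm)⟩
  rw [(fiberRank_congr f L 0 y (Iso.refl _)).1] at hr
  letI : (f.fiber y).Over (Spec (CommRingCat.of (S.residueField y))) := ⟨f.fiberToSpecResidueField y⟩
  rw [Module.finrank_zero_of_subsingleton] at hr
  omega

variable (e : S ⟶ C) (he : e ≫ f = 𝟙 S)

include hdim hg he in
/-- The divisor of a generator of the direct image is a rational point on every fibre. -/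
theorem exists_fibre_point {L : C.Modules} (hL : PicF.IsInvertible L) (hd : ∀ y, fdeg f L y = 1)
    {s : Γ(L, ⊤)} (hs0 : ∀ y, BCCoh.pullRes (f.fiberι y) L ⊤ ⊤ le_top s ≠ 0)
    {I : C.IdealSheafData} (hI : IsCanSec I L s) (y : S) :
    ∃ x : Spec (S.residueField y) ⟶ f.fiber y, x ≫ f.fiberToSpecResidueField y = 𝟙 _ ∧
      I.comap (f.fiberι y) = x.ker ∧ _root_.BlowUp.IsEffCartierIdeal (I.comap (f.fiberι y)) := by
  obtain ⟨h1, h2, h3, -⟩ := fiber_props f y
  letI : (f.fiber y).Over (Spec (CommRingCat.of (S.residueField y))) := ⟨f.fiberToSpecResidueField y⟩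
  haveI : IsProper (f.fiber y ↘ Spec (CommRingCat.of (S.residueField y))) := h1
  haveI : Smooth (f.fiber y ↘ Spec (CommRingCat.of (S.residueField y))) := h2
  haveI : GeometricallyConnected (f.fiber y ↘ Spec (CommRingCat.of (S.residueField y))) := h3
  have hgy : Curv2.genus (S.residueField y) (f.fiber y) = 1 := (fiberRank_structure f 1 y).symm.trans (hg y)
  let ey : Spec (S.residueField y) ⟶ f.fiber y :=
    pullback.lift (S.fromSpecResidueField y ≫ e) (𝟙 _) (by
      simp only [Category.assoc, he, Category.comp_id, Category.id_comp])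
  have hey : ey ≫ f.fiberToSpecResidueField y = 𝟙 _ := pullback.lift_snd _ _ _
  let M := CohIII.fiberMod f L y
  have hM : PicF.IsInvertible M := Ample.isInvertible_pullback _ hL
  obtain ⟨x, hx, hMx⟩ := exists_point_deg_one (S.residueField y) (hdim y) hgy ey hey hM (hd y)
  haveI := CurveMult.OmegaField.integral_and_h0 (S.residueField y) (f.fiber y) |>.1
  have hCx : _root_.BlowUp.IsEffCartierIdeal x.ker := by
    have hx' : x ≫ f.fiberToSpecResidueField y = 𝟙 _ := hx
    haveI : IsClosedImmersion x := CurveProd28.isClosedImmersion_pt _ x hx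
    exact IdealModSec.isEffCartier_of_isInvertible (CurveProd28.isInvertible_pt (S.residueField y) (hdim y) x hx)
  obtain ⟨t, ht⟩ := exists_isCanSec hCx hM hMx
  let v := BCCoh.pullRes (f.fiberι y) L ⊤ ⊤ le_top s
  have hr := (cohom_fibre f hdim hg hL hd y).2
  obtain ⟨c, hc⟩ := exists_smul_eq_of_finrank_le_one f L hL y hr.le v t (hs0 y)
  have hc0 : c ≠ 0 := fun h => by
    rw [h, map_zero] at hc
    have ht0 : t = 0 := hc.trans (zero_smul _ v)
    obtain ⟨z, hz⟩ : ∃ z : f.fiber y, z ∉ (x.ker.support : Set (f.fiber y)) := by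
      haveI : IsClosedImmersion x := CurveProd28.isClosedImmersion_pt _ x hx
      by_contra! hall
      haveI : Subsingleton ↥(f.fiber y) := ⟨fun a b => by
        haveI : Subsingleton ↥(Spec (S.residueField y)) := inferInstanceAs (Subsingleton (PrimeSpectrum _))
        have ha := hall a
        have hb := hall b
        rw [Scheme.Hom.support_ker, x.isClosedEmbedding.isClosed_range.closure_eq] at ha hb
        obtain ⟨a', rfl⟩ := ha
        obtain ⟨b', rfl⟩ := hb
        rw [Subsingleton.elim a' b']⟩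
      have h0 : topologicalKrullDim ↥(f.fiber y) ≤ 0 := CurveMult.IdealCrit.dim_le_zero_of_finite
      rw [hdim y] at h0
      norm_num at h0
    have hgz := ht.genAt hz
    rw [ht0] at hgz
    obtain ⟨W, hW, hzW, hgen⟩ := VA.mem_genOpen.1 (VA.mem_genOpen.2 hgz)
    haveI : Nonempty W := ⟨⟨z, hzW⟩⟩
    refine zero_ne_one (α := Γ(f.fiber y, W)) ((hgen W le_rfl).1 ?_)
    simp [InvExt.mres, map_zero]
  let u : Γ(f.fiber y, ⊤) := Coh.toGlobal (X := f.fiber y) (A := S.residueField y) (f.fiberToSpecResidueField y) c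
  have hu : IsUnit u := (isUnit_iff_ne_zero.2 hc0).map _
  have hIy := isCanSec_pullback (f.fiberι y) hL hI
  have hker : I.comap (f.fiberι y) = x.ker := hIy.eq_of_smul ht hu hc
  exact ⟨x, hx, hker, hker ▸ hCx⟩

include hdim hg he in
/-- A bundle of fibre degree one with trivial direct image is the bundle of a section. -/
theorem exists_section_of_push_trivial {L : C.Modules} (hL : PicF.IsInvertible L) (hd : ∀ y, fdeg f L y = 1)
    (φ : Coh.structureModule S ≅ (Scheme.Modules.pushforward f).obj L) :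
    ∃ x : S ⟶ C, x ≫ f = 𝟙 S ∧ ClSub.IsInverseOf L (ClSub.idealMod x.ker) := by
  let N := (Scheme.Modules.pushforward f).obj L
  let σ : Γ(N, ⊤) := φ.hom.app ⊤ (1 : Γ(S, ⊤))
  have hone : IsGen (Coh.structureModule S) ⊤ (show Γ(Coh.structureModule S, ⊤) from (1 : Γ(S, ⊤))) := by
    intro W hW
    have h1 : ∀ a : Γ(S, W),
        a • mres (Coh.structureModule S) hW (show Γ(Coh.structureModule S, ⊤) from (1 : Γ(S, ⊤))) = a := fun a =>
      (show a * (S.presheaf.map (homOfLE hW).op).hom 1 = a by rw [map_one, mul_one])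
    exact ⟨fun a b hab => (h1 a).symm.trans (hab.trans (h1 b)), fun n => ⟨n, h1 n⟩⟩
  have hσ : IsGen N ⊤ σ := InvExt.IsGen.map φ.hom hone fun W _ =>
    ConcreteCategory.bijective_of_isIso (φ.hom.app W)
  let s : Γ(L, ⊤) := σ
  let I := PicF2.zeroScheme L (OX.ofTop (N := L) s)
  have hI : IsCanSec I L s := isCanSec_zeroScheme hL s
  have hs0 : ∀ y, BCCoh.pullRes (f.fiberι y) L ⊤ ⊤ le_top s ≠ 0 := fun y =>
    pullRes_gen_ne_zero f hdim hg hL hd hσ y
  choose xy hxy hkxy hCxy using exists_fibre_point f hdim hg e he hL hd hs0 hI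
  haveI : LocallyOfFinitePresentation f := inferInstance
  obtain ⟨hC, hflat⟩ := Groth.Agent.S8848.result f I (isLocPrincipal_zeroScheme hL s) hCxy
  let q := I.subschemeι ≫ f
  haveI : Flat q := hflat
  have hfib : ∀ y, IsIso (pullback.snd q (S.fromSpecResidueField y)) := fun y => by
    have hsq : IsPullback (pullback.fst (f.fiberι y) I.subschemeι) (pullback.snd (f.fiberι y) I.subschemeι)
        (f.fiberι y) I.subschemeι := IsPullback.of_hasPullback _ _
    have hsq' := hsq.flip.paste_vert (IsPullback.of_hasPullback f (S.fromSpecResidueField y))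
    haveI : IsClosedImmersion (xy y) := by
      haveI : IsClosedImmersion (xy y ≫ f.fiberToSpecResidueField y) := by rw [hxy y]; infer_instance
      haveI : IsProper (f.fiberToSpecResidueField y) := (fiber_props f y).1
      exact IsClosedImmersion.of_comp (xy y) (f.fiberToSpecResidueField y)
    let j := pullback.fst (f.fiberι y) I.subschemeι
    have hj : j.ker = (xy y).ker := by
      rw [Scheme.IdealSheafData.ker_fst_of_isClosedImmersion, Scheme.IdealSheafData.ker_subschemeι]
      exact hkxy y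
    let θ := IsClosedImmersion.lift j (xy y) hj.le
    let θ' := IsClosedImmersion.lift (xy y) j hj.ge
    have hθ : θ ≫ j = xy y := IsClosedImmersion.lift_fac _ _ _
    have hθ' : θ' ≫ xy y = j := IsClosedImmersion.lift_fac _ _ _
    haveI : IsIso (j ≫ f.fiberToSpecResidueField y) := ⟨θ, by
      rw [← cancel_mono j, Category.assoc, hθ, ← hθ', Category.assoc, Category.assoc, reassoc_of% (hxy y),
        Category.id_comp], by rw [reassoc_of% hθ, hxy y]⟩
    rw [← hsq'.isoPullback_inv_snd]
    change IsIso (hsq'.isoPullback.inv ≫ j ≫ f.fiberToSpecResidueField y)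
    infer_instance
  haveI : LocallyOfFinitePresentation q := RelDiv.locallyOfFinitePresentation_of_isEffCartier f hC
  haveI : IsIso q := by
    haveI : LocallyOfFinitePresentation (q ≫ 𝟙 S) := by rw [Category.comp_id]; infer_instance
    haveI : Flat (q ≫ 𝟙 S) := by rw [Category.comp_id]; infer_instance
    refine FibreFlat.isIso_of_fibrewise q (𝟙 S) fun y => ?_
    haveI := hfib y
    have hid : IsPullback ((𝟙 S : S ⟶ S).fiberι y) ((𝟙 S : S ⟶ S).fiberToSpecResidueField y) (𝟙 S)
        (S.fromSpecResidueField y) := IsPullback.of_hasPullback _ _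
    haveI : IsIso ((𝟙 S : S ⟶ S).fiberToSpecResidueField y) := hid.isIso_snd_of_isIso
    have hfac : (𝟙 S : S ⟶ S).fiberι y = (𝟙 S : S ⟶ S).fiberToSpecResidueField y ≫ S.fromSpecResidueField y := by
      rw [← hid.w, Category.comp_id]
    have hp := (IsPullback.of_hasPullback q ((𝟙 S : S ⟶ S).fiberι y)).paste_vert
      (IsPullback.of_vert_isIso ⟨by rw [Category.comp_id]; exact hfac⟩ :
        IsPullback ((𝟙 S : S ⟶ S).fiberι y) ((𝟙 S : S ⟶ S).fiberToSpecResidueField y) (𝟙 S) (S.fromSpecResidueField y))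
    rw [Category.comp_id] at hp
    haveI : IsIso (pullback.snd q ((𝟙 S : S ⟶ S).fiberι y) ≫ (𝟙 S : S ⟶ S).fiberToSpecResidueField y) := by
      rw [← hp.isoPullback_hom_snd]; infer_instance
    exact IsIso.of_isIso_comp_right _ ((𝟙 S : S ⟶ S).fiberToSpecResidueField y)
  refine ⟨inv q ≫ I.subschemeι, by rw [Category.assoc]; exact IsIso.inv_hom_id q, ?_⟩
  rw [Scheme.Hom.ker_comp_of_isIso, Scheme.IdealSheafData.ker_subschemeι]
  exact isInverseOf_of_isCanSec hC hI

include hdim hg he in
/-- **Classes of fibre degree one come from sections.** -/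
theorem exists_section_class {L : C.Modules} (hL : PicF.IsInvertible L) (hd : ∀ y, fdeg f L y = 1) :
    ∃ (x : S ⟶ C) (_ : x ≫ f = 𝟙 S) (hI : PicF.IsInvertible (ClSub.idealMod x.ker)) (n : Pic S),
      clsMod hL = (clsMod hI)⁻¹ * pull f n := by
  let N := (Scheme.Modules.pushforward f).obj L
  have hN : PicF.IsInvertible N := isInvertible_push_deg_one f hdim hg hL hd
  obtain ⟨hN', hN'c⟩ := Dual.hasCls_rep ((clsMod hN)⁻¹)
  let N' := Dual.rep ((clsMod hN)⁻¹)
  let L' := CohB1.tensorMod ((Scheme.Modules.pullback f).obj N') L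
  have hfN' := Ample.isInvertible_pullback f hN'
  have hL' : PicF.IsInvertible L' := Ample.isInvertible_tensorMod hfN' hL
  have hcls : clsMod hL' = clsMod hL * pull f ((clsMod hN)⁻¹) := by
    rw [Cube.clsMod_tensorMod hfN' hL, Cube.clsMod_pullback f hN', hN'c, mul_comm]
  have hd' : ∀ y, fdeg f L' y = 1 := fun y => by
    obtain ⟨i⟩ := clsMod_fiber_twist f hL' hL hcls y
    letI : (f.fiber y).Over (Spec (CommRingCat.of (S.residueField y))) := ⟨f.fiberToSpecResidueField y⟩
    exact (Euler.deg_of_iso (S.residueField y) i 1).trans (hd y)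
  haveI := ProjFormula.isIso_projHom f (Euler.isFinLocFree_of_isInvertible hN') L
  obtain ⟨t⟩ : Nonempty (CohB1.tensorMod N' N ≅ Coh.structureModule S) :=
    (Cube.clsMod_eq_one_iff (Ample.isInvertible_tensorMod hN' hN)).1 (by
      rw [Cube.clsMod_tensorMod hN' hN, hN'c, inv_mul_cancel])
  obtain ⟨x, hx, hinv⟩ := exists_section_of_push_trivial f hdim hg e he hL' hd'
    (t.symm ≪≫ asIso (ProjFormula.projHom f N' L))
  have hI := IdealModSec.isInvertible_of_isEffCartier (isEffCartier_section f hdim x hx)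
  refine ⟨x, hx, hI, clsMod hN, ?_⟩
  rw [← Cube.clsMod_eq_inv_of_isInverseOf hL' hI hinv, hcls, map_inv, inv_mul_cancel_right]

include hdim hg in
/-- **The section is determined by the class modulo the base.** -/
theorem section_unique_class (x x' : S ⟶ C) (hx : x ≫ f = 𝟙 S) (hx' : x' ≫ f = 𝟙 S)
    (hI : PicF.IsInvertible (ClSub.idealMod x.ker)) (hI' : PicF.IsInvertible (ClSub.idealMod x'.ker)) (n : Pic S)
    (h : clsMod hI = clsMod hI' * pull f n) : x = x' := by
  obtain ⟨hL, hLc⟩ := Dual.hasCls_rep ((clsMod hI)⁻¹)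
  obtain ⟨hL', hL'c⟩ := Dual.hasCls_rep ((clsMod hI')⁻¹)
  let L := Dual.rep ((clsMod hI)⁻¹)
  let L' := Dual.rep ((clsMod hI')⁻¹)
  have hinv : ClSub.IsInverseOf L (ClSub.idealMod x.ker) :=
    (Cube.clsMod_eq_one_iff (Ample.isInvertible_tensorMod hL hI)).1 (by
      rw [Cube.clsMod_tensorMod hL hI, hLc, inv_mul_cancel])
  have hinv' : ClSub.IsInverseOf L' (ClSub.idealMod x'.ker) :=
    (Cube.clsMod_eq_one_iff (Ample.isInvertible_tensorMod hL' hI')).1 (by
      rw [Cube.clsMod_tensorMod hL' hI', hL'c, inv_mul_cancel])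
  have hg1 : ∀ s : S, 1 ≤ CohIII.fiberRank f (Coh.structureModule C) 1 s := fun s => (hg s).ge
  have key : ∀ (z : S ⟶ C) (hz : z ≫ f = 𝟙 S) (M : C.Modules), PicF.IsInvertible M →
      ClSub.IsInverseOf M (ClSub.idealMod z.ker) →
      Nonempty ((Scheme.Modules.pushforward f).obj M ≅ Coh.structureModule S) := fun z hz M hM hMz => by
    obtain ⟨t, ht⟩ := exists_isCanSec (isEffCartier_section f hdim z hz) hM hMz
    have hgen := isGen_push f hdim hg1 z hz hM hMz ht
    let P := (Scheme.Modules.pushforward f).obj M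
    let τ : Γ(P, ⊤) := mres M (le_top : f ⁻¹ᵁ (⊤ : S.Opens) ≤ ⊤) t
    haveI : IsIso (OX.ofTop (N := P) τ) := Scheme.Modules.Hom.isIso_iff_isIso_app.2 fun W => by
      refine (ConcreteCategory.isIso_iff_bijective _).2 ?_
      have hfun : ∀ b : Γ(S, W), (OX.ofTop (N := P) τ).app W b = b • mres P (le_top : W ≤ ⊤) τ := fun b =>
        (Mero.Zero.app_eq_smul_secVal P (OX.ofTop (N := P) τ) W b).trans (congrArg (b • ·) (secVal_ofTop τ W))
      refine ⟨fun a b hab => hgen.smul_left_injective le_top ?_, fun m => ?_⟩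
      · exact (hfun a).symm.trans (hab.trans (hfun b))
      · obtain ⟨b, hb⟩ := hgen.exists_smul_eq le_top m
        exact ⟨b, (hfun b).trans hb.symm⟩
    exact ⟨(asIso (OX.ofTop (N := P) τ)).symm⟩
  obtain ⟨hn, hnc⟩ := Dual.hasCls_rep n
  obtain ⟨p⟩ := key x hx L hL hinv
  obtain ⟨p'⟩ := key x' hx' L' hL' hinv'
  let T := CohB1.tensorMod ((Scheme.Modules.pullback f).obj (Dual.rep n)) L
  have hT : PicF.IsInvertible T := Ample.isInvertible_tensorMod (Ample.isInvertible_pullback f hn) hL
  obtain ⟨i⟩ : Nonempty (L' ≅ T) := (Cube.clsMod_eq_iff hL' hT).1 (by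
    rw [Cube.clsMod_tensorMod (Ample.isInvertible_pullback f hn) hL, Cube.clsMod_pullback f hn, hnc, hLc, hL'c, h,
      mul_inv, mul_left_comm, mul_inv_cancel, mul_one])
  haveI := ProjFormula.isIso_projHom f (Euler.isFinLocFree_of_isInvertible hn) L
  have h1 : n = 1 := by
    have j : CohB1.tensorMod (Dual.rep n) ((Scheme.Modules.pushforward f).obj L) ≅ Coh.structureModule S :=
      asIso (ProjFormula.projHom f (Dual.rep n) L) ≪≫ (Scheme.Modules.pushforward f).mapIso i.symm ≪≫ p'
    have hP : PicF.IsInvertible ((Scheme.Modules.pushforward f).obj L) :=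
      RelProjK.isInvertible_of_iso p Euler.isInvertible_structure
    have h2 := (Cube.clsMod_eq_one_iff (Ample.isInvertible_tensorMod hn hP)).2 ⟨j⟩
    rwa [Cube.clsMod_tensorMod hn hP, (Cube.clsMod_eq_one_iff hP).2 ⟨p⟩, mul_one, hnc] at h2
  rw [h1, map_one, mul_one] at h
  obtain ⟨m⟩ : Nonempty (L' ≅ L) := (Cube.clsMod_eq_iff hL' hL).1 (by rw [hL'c, hLc, h])
  refine (section_unique f hdim hg1 x hx hL hinv x' hx' ?_).symm
  exact (Cube.clsMod_eq_one_iff (Ample.isInvertible_tensorMod hL hI')).1 (by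
    rw [Cube.clsMod_tensorMod hL hI', hLc, h, inv_mul_cancel])

end GrothLib.EllGroup15
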