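import Groth.Agent.Lib.EllGroup15.OverField
import Groth.Agent.Lib.CurveMult.OmegaField
import Groth.Agent.Lib.Neutral.Connected
import Groth.Agent.Lib.OmegaAb15.Basic
import Groth.Prelude.Def_CurvBase

/-!
# A curve with a point has genus one exactly when it is a group
-/

set_option autoImplicit false
set_option linter.all false
set_option backward.isDefEq.respectTransparency false
set_option maxHeartbeats 2000000

universe u

open CategoryTheory CategoryTheory.Limits AlgebraicGeometry Opposite
open CategoryTheory.MonoidalCategory CategoryTheory.CartesianMonoidalCategory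
open scoped MonObj
open GrothLib.Cube (Pic clsMod pull HasCls)

noncomputable section

namespace GrothLib.EllGroup15

open GrothLib.SmCurveFam

variable (k : Type u) [Field k]

theorem genus_eq_one_iff_exists_grpObj {E : Scheme.{u}} (p : E ⟶ Spec (CommRingCat.of k))
    [IsProper p] [Smooth p] [ConnectedSpace E] (hE : topologicalKrullDim E = 1)
    (e : Spec (CommRingCat.of k) ⟶ E) (he : e ≫ p = 𝟙 _) :
    @Curv2.genus k _ E ⟨p⟩ = 1 ↔ ∃ h : GrpObj (Over.mk p), h.one.left = e := by
  haveI : GeometricallyConnected p := Neutral.geometricallyConnected_of_point p e he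
  refine ⟨fun hg => ?_, ?_⟩
  · obtain ⟨G, h1, -⟩ := exists_commGrpObj e he (isGenusOne_field p hE hg)
    refine ⟨G, ?_⟩
    have h3 := h1 (𝟙_ _)
    rw [Hom.one_def, toUnit_unit, Category.id_comp] at h3
    exact (congrArg CommaMorphism.left h3).trans (Category.id_comp e)
  · rintro ⟨G, -⟩
    letI : GrpObj (Over.mk p) := G
    letI : E.Over (Spec (CommRingCat.of k)) := ⟨p⟩
    haveI : IsProper (E ↘ Spec (CommRingCat.of k)) := ‹IsProper p›
    haveI : Smooth (E ↘ Spec (CommRingCat.of k)) := ‹Smooth p›
    haveI : GeometricallyConnected (E ↘ Spec (CommRingCat.of k)) := ‹GeometricallyConnected p›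
    obtain ⟨hint, h0⟩ := CurveMult.OmegaField.integral_and_h0 k E
    haveI := hint
    haveI := CurveRR.regCurve_of_smooth (E ↘ Spec (CommRingCat.of k)) hE
    haveI : QuasiSeparated (Over.mk p).hom := inferInstanceAs (QuasiSeparated p)
    obtain ⟨i⟩ := (Groth.Agent.S1937.result _ (Over.mk p)).1
    have hΩ : PicF.IsInvertible (Omega.sheaf p) := CurveMult.OmegaField.isInvertible k
    let η₁ : Spec (CommRingCat.of k) ⟶ E := η[Over.mk p].left
    have hη : η₁ ≫ p = 𝟙 _ := Over.w η[Over.mk p]
    let C := Omega.conormal η₁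
    let j : (Scheme.Modules.pullback η₁).obj (Omega.sheaf p) ≅ C :=
      (Scheme.Modules.pullback η₁).mapIso i ≪≫ (OmegaAb15.pullbackSectionIso hη).app _
    have hC : PicF.IsInvertible C := RelProjK.isInvertible_of_iso j.symm (Ample.isInvertible_pullback η₁ hΩ)
    have hcls : clsMod hΩ = 1 := by
      rw [(Cube.clsMod_eq_iff hΩ (Ample.isInvertible_pullback p hC)).2 ⟨i⟩, Cube.clsMod_pullback p hC,
        show clsMod hC = 1 from Cube.pic_spec_field_eq_one (F := CommRingCat.of k) _, map_one]
    obtain ⟨t⟩ := (Cube.clsMod_eq_one_iff hΩ).1 hcls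
    have h := (CurveMult.OmegaField.finrank_deg_omega k hE h0).2
    rw [show (E ↘ Spec (CommRingCat.of k)) = p from rfl, Euler.deg_of_iso k t] at h
    simp only [Curv2.deg, Nat.cast_one, one_mul, sub_self] at h
    omega

end GrothLib.EllGroup15
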