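import Groth.Agent.Lib.EllGroup15.Family
import Groth.Agent.Lib.SmCurveFam.AbelMap
import Groth.Agent.Lib.CotTangent.Components
import Groth.Prelude.Def_Pic
import Groth.Prelude.Def_FGA
import Groth.Prelude.Def_ClSub2
import Mathlib.CategoryTheory.Monoidal.Cartesian.Grp

/-!
# The group law of a family of curves of genus one with a section
-/

set_option autoImplicit false
set_option linter.all false
set_option backward.isDefEq.respectTransparency false
set_option maxHeartbeats 2000000

universe u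

open CategoryTheory CategoryTheory.Limits AlgebraicGeometry Opposite
open CategoryTheory.MonoidalCategory CategoryTheory.CartesianMonoidalCategory
open scoped MonObj
open GrothLib.Cube (Pic clsMod pull HasCls)

noncomputable section

namespace GrothLib.EllGroup15

open GrothLib.SmCurveFam

variable {E S : Scheme.{u}} (f : E ⟶ S)

/-- The hypotheses on a family of curves of genus one. -/
structure IsGenusOne : Prop where
  proper : IsProper f
  smooth : Smooth f
  conn : GeometricallyConnected f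
  dim : ∀ s : S, topologicalKrullDim ↥(f.fiber s) = 1
  genus : ∀ s : S, CohIII.fiberRank f (Coh.structureModule E) 1 s = 1

variable {f}

theorem IsGenusOne.baseChange (h : IsGenusOne f) {E' S' : Scheme.{u}} {b : S' ⟶ S} {f' : E' ⟶ S'} {b' : E' ⟶ E}
    (hsq : IsPullback b' f' f b) : IsGenusOne f' := by
  haveI := h.proper
  haveI := h.smooth
  haveI := h.conn
  haveI : IsProper f' := MorphismProperty.of_isPullback (P := @IsProper) hsq inferInstance
  haveI : Smooth f' := MorphismProperty.of_isPullback (P := @Smooth) hsq inferInstance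
  haveI : GeometricallyConnected f' := MorphismProperty.of_isPullback (P := @GeometricallyConnected) hsq inferInstance
  refine ⟨inferInstance, inferInstance, inferInstance,
    (hyps_baseChange f h.dim (fun s => (h.genus s).ge) hsq).1, fun s => ?_⟩
  haveI : (Coh.structureModule E).IsQuasicoherent :=
    InvExt.isQuasicoherent_of_isInvertible Euler.isInvertible_structure
  refine Eq.trans ?_ (h.genus (b s))
  refine Eq.trans ?_ (GrowthBd.fiberRank_baseChange hsq (Coh.structureModule E) 1 s)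
  obtain ⟨e⟩ := Ample.nonempty_pullback_structureModule b'
  exact ((fiberRank_congr f' _ 1 s ((Scheme.Modules.pullback (f'.fiberι s)).mapIso e)).1).symm

/-- The ideal of a section is invertible. -/
theorem IsGenusOne.isInvertible_ideal (h : IsGenusOne f) (x : S ⟶ E) (hx : x ≫ f = 𝟙 S) :
    PicF.IsInvertible (ClSub.idealMod x.ker) := by
  haveI := h.proper
  haveI := h.smooth
  haveI := h.conn
  exact IdealModSec.isInvertible_of_isEffCartier (isEffCartier_section f h.dim x hx)

/-- The class of the ideal of a section. -/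
def secCl (h : IsGenusOne f) (x : S ⟶ E) (hx : x ≫ f = 𝟙 S) : Pic E := clsMod (h.isInvertible_ideal x hx)

theorem pull_secCl (h : IsGenusOne f) {E' S' : Scheme.{u}} {b : S' ⟶ S} {f' : E' ⟶ S'} {b' : E' ⟶ E}
    (hsq : IsPullback b' f' f b) (x : S ⟶ E) (hx : x ≫ f = 𝟙 S) (x' : S' ⟶ E') (hx' : x' ≫ f' = 𝟙 S')
    (hxx : x' ≫ b' = b ≫ x) : pull b' (secCl h x hx) = secCl (h.baseChange hsq) x' hx' := by
  haveI := h.proper
  haveI : IsClosedImmersion x := by
    haveI : IsClosedImmersion (x ≫ f) := by rw [hx]; infer_instance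
    exact IsClosedImmersion.of_comp x f
  haveI : IsClosedImmersion x' := by
    haveI := (h.baseChange hsq).proper
    haveI : IsClosedImmersion (x' ≫ f') := by rw [hx']; infer_instance
    exact IsClosedImmersion.of_comp x' f'
  have hQ : IsPullback b x' x b' := by
    refine IsPullback.of_bot ?_ hxx.symm hsq
    rw [hx', hx]
    exact IsPullback.of_vert_isIso ⟨by simp⟩
  have hker : x'.ker = x.ker.comap b' := by
    rw [← hQ.flip.isoPullback_hom_fst, Scheme.Hom.ker_comp_of_isIso,
      Scheme.IdealSheafData.ker_fst_of_isClosedImmersion]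
  obtain ⟨i⟩ := HodgeIndex.nonempty_pullback_idealMod x x' b b' hxx hker (h.isInvertible_ideal x hx)
    ((h.baseChange hsq).isInvertible_ideal x' hx')
  rw [secCl, secCl, ← Cube.clsMod_pullback b' (h.isInvertible_ideal x hx)]
  exact (Cube.clsMod_eq_iff _ _).2 ⟨i⟩

variable (σ : S ⟶ E) (hσ : σ ≫ f = 𝟙 S)

/-- `(P) + (Q) ~ (R) + (σ)`. -/
def Rel (h : IsGenusOne f) (P Q R : S ⟶ E) (hP : P ≫ f = 𝟙 S) (hQ : Q ≫ f = 𝟙 S) (hR : R ≫ f = 𝟙 S) : Prop :=
  ∃ n : Pic S, secCl h P hP * secCl h Q hQ = secCl h R hR * secCl h σ hσ * pull f n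

theorem Rel.unique (h : IsGenusOne f) {P Q R R' : S ⟶ E} {hP : P ≫ f = 𝟙 S} {hQ : Q ≫ f = 𝟙 S}
    {hR : R ≫ f = 𝟙 S} {hR' : R' ≫ f = 𝟙 S} (h1 : Rel σ hσ h P Q R hP hQ hR) (h2 : Rel σ hσ h P Q R' hP hQ hR') :
    R = R' := by
  haveI := h.proper
  haveI := h.smooth
  haveI := h.conn
  obtain ⟨n, hn⟩ := h1
  obtain ⟨m, hm⟩ := h2
  refine section_unique_class f h.dim h.genus R R' hR hR' (h.isInvertible_ideal R hR) (h.isInvertible_ideal R' hR')
    (m * n⁻¹) ?_
  show secCl h R hR = secCl h R' hR' * pull f (m * n⁻¹)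
  rw [hn, mul_right_comm, mul_right_comm (secCl h R' hR'), mul_left_inj] at hm
  rw [map_mul, map_inv, ← mul_assoc, ← hm, mul_inv_cancel_right]

include σ hσ in
/-- A combination of three sections of total degree one is a section. -/
theorem exists_combination (h : IsGenusOne f) (A B D : S ⟶ E) (hA : A ≫ f = 𝟙 S) (hB : B ≫ f = 𝟙 S)
    (hD : D ≫ f = 𝟙 S) :
    ∃ (R : S ⟶ E) (hR : R ≫ f = 𝟙 S) (n : Pic S), secCl h A hA * secCl h B hB =
      secCl h R hR * secCl h D hD * pull f n := by
  haveI := h.proper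
  haveI := h.smooth
  haveI := h.conn
  obtain ⟨hA', hA'c⟩ := Dual.hasCls_rep ((secCl h A hA)⁻¹)
  obtain ⟨hB', hB'c⟩ := Dual.hasCls_rep ((secCl h B hB)⁻¹)
  obtain ⟨hD', hD'c⟩ := Dual.hasCls_rep ((secCl h D hD)⁻¹)
  have hID := h.isInvertible_ideal D hD
  let LA := Dual.rep ((secCl h A hA)⁻¹)
  let LB := Dual.rep ((secCl h B hB)⁻¹)
  let LD := Dual.rep ((secCl h D hD)⁻¹)
  let L := CohB1.tensorMod (CohB1.tensorMod LA LB) (ClSub.idealMod D.ker)
  have hAB := Ample.isInvertible_tensorMod hA' hB'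
  have hL : PicF.IsInvertible L := Ample.isInvertible_tensorMod hAB hID
  have hd : ∀ y, fdeg f L y = 1 := fun y => by
    obtain ⟨h1, h2, h3, -⟩ := fiber_props f y
    letI : (f.fiber y).Over (Spec (CommRingCat.of (S.residueField y))) := ⟨f.fiberToSpecResidueField y⟩
    haveI : IsProper (f.fiber y ↘ Spec (CommRingCat.of (S.residueField y))) := h1
    haveI : Smooth (f.fiber y ↘ Spec (CommRingCat.of (S.residueField y))) := h2
    haveI : GeometricallyConnected (f.fiber y ↘ Spec (CommRingCat.of (S.residueField y))) := h3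
    haveI := (CurveMult.OmegaField.integral_and_h0 (S.residueField y) (f.fiber y)).1
    let r := fun {M : E.Modules} (hM : PicF.IsInvertible M) => Ample.isInvertible_pullback (f.fiberι y) hM
    have key : ∀ (z : S ⟶ E) (hz : z ≫ f = 𝟙 S) {M : E.Modules} (hM : PicF.IsInvertible M)
        (hc : clsMod hM = (secCl h z hz)⁻¹),
        Curv2.deg (S.residueField y) (f.fiber y) (CohIII.fiberMod f M y) 1 = 1 := fun z hz M hM hc =>
      deg_fibre_eq_one f h.dim z hz (h.isInvertible_ideal z hz) hM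
        ((Cube.clsMod_eq_one_iff (Ample.isInvertible_tensorMod hM (h.isInvertible_ideal z hz))).1 (by
          rw [Cube.clsMod_tensorMod hM (h.isInvertible_ideal z hz), hc, secCl, inv_mul_cancel])) y
    have dA := key A hA hA' hA'c
    have dB := key B hB hB' hB'c
    have dD := key D hD hD' hD'c
    obtain ⟨i⟩ : Nonempty (CohIII.fiberMod f L y ≅ CohB1.tensorMod
        (CohB1.tensorMod (CohIII.fiberMod f LA y) (CohIII.fiberMod f LB y))
        (CohIII.fiberMod f (ClSub.idealMod D.ker) y)) := by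
      refine (Cube.clsMod_eq_iff (r hL)
        (Ample.isInvertible_tensorMod (Ample.isInvertible_tensorMod (r hA') (r hB')) (r hID))).1 ?_
      rw [Cube.clsMod_tensorMod (Ample.isInvertible_tensorMod (r hA') (r hB')) (r hID),
        Cube.clsMod_tensorMod (r hA') (r hB'), Cube.clsMod_pullback _ hL, Cube.clsMod_pullback _ hA',
        Cube.clsMod_pullback _ hB', Cube.clsMod_pullback _ hID, ← map_mul, ← map_mul,
        Cube.clsMod_tensorMod hAB hID, Cube.clsMod_tensorMod hA' hB']
    obtain ⟨j⟩ : Nonempty (CohB1.tensorMod (CohIII.fiberMod f LD y) (CohIII.fiberMod f (ClSub.idealMod D.ker) y) ≅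
        Coh.structureModule (f.fiber y)) := by
      refine (Cube.clsMod_eq_one_iff (Ample.isInvertible_tensorMod (r hD') (r hID))).1 ?_
      rw [Cube.clsMod_tensorMod (r hD') (r hID), Cube.clsMod_pullback _ hD', Cube.clsMod_pullback _ hID, ← map_mul,
        hD'c, secCl, inv_mul_cancel, map_one]
    have e1 := CurveMult.deg_tensorMod (S.residueField y) (h.dim y).le (r hD') (r hID)
    rw [Euler.deg_of_iso (S.residueField y) j, dD] at e1
    simp only [Curv2.deg, Nat.cast_one, one_mul, sub_self] at e1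
    show Curv2.deg (S.residueField y) (f.fiber y) (CohIII.fiberMod f L y) 1 = 1
    rw [Euler.deg_of_iso (S.residueField y) i,
      CurveMult.deg_tensorMod (S.residueField y) (h.dim y).le (Ample.isInvertible_tensorMod (r hA') (r hB')) (r hID),
      CurveMult.deg_tensorMod (S.residueField y) (h.dim y).le (r hA') (r hB'), dA, dB]
    simp only [Curv2.deg, Nat.cast_one, one_mul]
    omega
  obtain ⟨R, hR, hIR, n, hn⟩ := exists_section_class f h.dim h.genus σ hσ hL hd
  refine ⟨R, hR, n⁻¹, ?_⟩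
  rw [Cube.clsMod_tensorMod hAB hID, Cube.clsMod_tensorMod hA' hB', hA'c, hB'c] at hn
  change (secCl h A hA)⁻¹ * (secCl h B hB)⁻¹ * secCl h D hD = (secCl h R hR)⁻¹ * pull f n at hn
  rw [map_inv]
  generalize secCl h A hA = a, secCl h B hB = b, secCl h D hD = d, secCl h R hR = r, pull f n = m at hn ⊢
  rw [eq_inv_mul_iff_mul_eq] at hn
  have h' : d * r = a * b * m := by
    rw [← hn, show a * b * (r * (a⁻¹ * b⁻¹ * d)) = (a * a⁻¹) * (b * b⁻¹) * (d * r) by ac_rfl, mul_inv_cancel,
      mul_inv_cancel, one_mul, one_mul]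
  rw [mul_comm r d, h', mul_inv_cancel_right]

section Points

variable (hf : IsGenusOne f)

/-- The graph of a point. -/
def graph {T : Over S} (P : T ⟶ Over.mk f) : T.left ⟶ PicF.XT f T :=
  pullback.lift P.left (𝟙 T.left) ((Over.w P).trans (Category.id_comp T.hom).symm)

theorem graph_snd {T : Over S} (P : T ⟶ Over.mk f) : graph P ≫ PicF.XTproj f T = 𝟙 T.left := pullback.lift_snd _ _ _

include hf in
theorem hypsT (T : Over S) : IsGenusOne (PicF.XTproj f T) := hf.baseChange (IsPullback.of_hasPullback f T.hom)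

/-- The relation on points. -/
def RelT {T : Over S} (P Q R : T ⟶ Over.mk f) : Prop :=
  Rel (PicF.secT f σ hσ T) (pullback.lift_snd _ _ _) (hypsT hf T) (graph P) (graph Q) (graph R)
    (graph_snd P) (graph_snd Q) (graph_snd R)

theorem graph_injective {T : Over S} {P Q : T ⟶ Over.mk f} (h : graph P = graph Q) : P = Q := by
  apply Over.OverMorphism.ext
  have h' := congrArg (· ≫ pullback.fst f T.hom) h
  simpa [graph] using h'

include σ hσ hf in
theorem RelT.unique {T : Over S} {P Q R R' : T ⟶ Over.mk f} (h1 : RelT σ hσ hf P Q R)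
    (h2 : RelT σ hσ hf P Q R') : R = R' :=
  graph_injective (Rel.unique _ _ _ h1 h2)

theorem exists_point {T : Over S} (x : T.left ⟶ PicF.XT f T) (hx : x ≫ PicF.XTproj f T = 𝟙 T.left) :
    ∃ P : T ⟶ Over.mk f, graph P = x := by
  refine ⟨Over.homMk (x ≫ pullback.fst f T.hom) ?_, ?_⟩
  · show (x ≫ pullback.fst f T.hom) ≫ f = T.hom
    rw [Category.assoc, pullback.condition, ← Category.assoc]
    exact (congrArg (· ≫ T.hom) hx).trans (Category.id_comp _)
  · exact pullback.hom_ext (pullback.lift_fst _ _ _) ((pullback.lift_snd _ _ _).trans hx.symm)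

include σ hσ hf in
theorem exists_mul {T : Over S} (P Q : T ⟶ Over.mk f) : ∃ R, RelT σ hσ hf P Q R := by
  obtain ⟨x, hx, n, hn⟩ := exists_combination (PicF.secT f σ hσ T) (pullback.lift_snd _ _ _) (hypsT hf T)
    (graph P) (graph Q) (PicF.secT f σ hσ T) (graph_snd P) (graph_snd Q) (pullback.lift_snd _ _ _)
  obtain ⟨R, rfl⟩ := exists_point x hx
  exact ⟨R, n, hn⟩

/-- The origin. -/
def origin (T : Over S) : T ⟶ Over.mk f := Over.homMk (T.hom ≫ σ) (by
  show (T.hom ≫ σ) ≫ f = T.hom
  rw [Category.assoc, hσ, Category.comp_id])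

theorem graph_origin (T : Over S) : graph (origin σ hσ T) = PicF.secT f σ hσ T := rfl

/-- The class of a point, `O(P - σ)` modulo the base. -/
def theta {T : Over S} (P : T ⟶ Over.mk f) : Pic (PicF.XT f T) ⧸ (pull (PicF.XTproj f T)).range :=
  QuotientGroup.mk (secCl (hypsT hf T) (PicF.secT f σ hσ T) (pullback.lift_snd _ _ _) *
    (secCl (hypsT hf T) (graph P) (graph_snd P))⁻¹)

theorem theta_eq_iff {T : Over S} (P Q R : T ⟶ Over.mk f) :
    theta σ hσ hf P * theta σ hσ hf Q = theta σ hσ hf R ↔ RelT σ hσ hf P Q R := by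
  rw [theta, theta, theta, ← QuotientGroup.mk_mul, QuotientGroup.eq, RelT, Rel, MonoidHom.mem_range]
  generalize secCl (hypsT hf T) (graph P) (graph_snd P) = p, secCl (hypsT hf T) (graph Q) (graph_snd Q) = q,
    secCl (hypsT hf T) (graph R) (graph_snd R) = r
  generalize secCl (hypsT hf T) (PicF.secT f σ hσ T) (pullback.lift_snd _ _ _) = o
  have key : (o * p⁻¹ * (o * q⁻¹))⁻¹ * (o * r⁻¹) = p * q * (r * o)⁻¹ := by
    calc (o * p⁻¹ * (o * q⁻¹))⁻¹ * (o * r⁻¹) = (o⁻¹ * p) * (o⁻¹ * q) * (o * r⁻¹) := by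
          rw [mul_inv, mul_inv, mul_inv, inv_inv, inv_inv]
      _ = (o⁻¹ * o) * (p * q * (r⁻¹ * o⁻¹)) := by ac_rfl
      _ = p * q * (r * o)⁻¹ := by rw [inv_mul_cancel, one_mul, mul_inv]
  rw [key]
  constructor
  · rintro ⟨n, hn⟩
    exact ⟨n, by rw [hn, mul_inv_cancel_comm_assoc]⟩
  · rintro ⟨n, hn⟩
    exact ⟨n, by rw [hn, mul_inv_cancel_comm]⟩

include σ hσ hf in
theorem theta_injective (T : Over S) : Function.Injective (theta σ hσ hf : (T ⟶ Over.mk f) → _) := by
  intro P Q h
  obtain ⟨R, hR⟩ := exists_mul σ hσ hf P (origin σ hσ T)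
  have ho : theta σ hσ hf (origin σ hσ T) = 1 := by
    rw [theta, show secCl (hypsT hf T) (graph (origin σ hσ T)) (graph_snd _) =
      secCl (hypsT hf T) (PicF.secT f σ hσ T) (pullback.lift_snd _ _ _) from rfl, mul_inv_cancel]
    rfl
  have h1 : RelT σ hσ hf P (origin σ hσ T) P := (theta_eq_iff σ hσ hf _ _ _).1 (by rw [ho, mul_one])
  have h2 : RelT σ hσ hf P (origin σ hσ T) Q := (theta_eq_iff σ hσ hf _ _ _).1 (by rw [ho, mul_one, h])
  exact RelT.unique σ hσ hf h1 h2

include σ hσ hf in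
theorem exists_inv {T : Over S} (P : T ⟶ Over.mk f) : ∃ R, RelT σ hσ hf P R (origin σ hσ T) := by
  obtain ⟨x, hx, n, hn⟩ := exists_combination (PicF.secT f σ hσ T) (pullback.lift_snd _ _ _) (hypsT hf T)
    (PicF.secT f σ hσ T) (PicF.secT f σ hσ T) (graph P) (pullback.lift_snd _ _ _) (pullback.lift_snd _ _ _)
    (graph_snd P)
  obtain ⟨R, rfl⟩ := exists_point x hx
  refine ⟨R, n⁻¹, ?_⟩
  rw [map_inv]
  show _ = secCl (hypsT hf T) (PicF.secT f σ hσ T) _ * secCl (hypsT hf T) (PicF.secT f σ hσ T) _ * _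
  rw [hn, mul_comm (secCl (hypsT hf T) (graph P) _), mul_inv_cancel_right]

/-- The points. -/
def Pts (_σ : S ⟶ E) (_hσ : _σ ≫ f = 𝟙 S) (_hf : IsGenusOne f) (T : Over S) : Type u := T ⟶ Over.mk f

instance mulPts (T : Over S) : Mul (Pts σ hσ hf T) := ⟨fun P Q => (exists_mul σ hσ hf (T := T) P Q).choose⟩

instance onePts (T : Over S) : One (Pts σ hσ hf T) := ⟨origin σ hσ T⟩

instance invPts (T : Over S) : Inv (Pts σ hσ hf T) := ⟨fun P => (exists_inv σ hσ hf (T := T) P).choose⟩

/-- The class map on points. -/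
def thetaPts {T : Over S} (P : Pts σ hσ hf T) : Pic (PicF.XT f T) ⧸ (pull (PicF.XTproj f T)).range :=
  theta σ hσ hf (T := T) P

theorem thetaPts_one (T : Over S) : thetaPts σ hσ hf (1 : Pts σ hσ hf T) = 1 := by
  show theta σ hσ hf (origin σ hσ T) = 1
  rw [theta, show secCl (hypsT hf T) (graph (origin σ hσ T)) (graph_snd _) =
    secCl (hypsT hf T) (PicF.secT f σ hσ T) (pullback.lift_snd _ _ _) from rfl, mul_inv_cancel]
  rfl

theorem thetaPts_mul {T : Over S} (P Q : Pts σ hσ hf T) :
    thetaPts σ hσ hf (P * Q) = thetaPts σ hσ hf P * thetaPts σ hσ hf Q :=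
  ((theta_eq_iff σ hσ hf (T := T) _ _ _).2 (exists_mul σ hσ hf (T := T) P Q).choose_spec).symm

theorem thetaPts_inv {T : Over S} (P : Pts σ hσ hf T) : thetaPts σ hσ hf P⁻¹ = (thetaPts σ hσ hf P)⁻¹ :=
  eq_inv_of_mul_eq_one_right (((theta_eq_iff σ hσ hf (T := T) _ _ _).2
    (exists_inv σ hσ hf (T := T) P).choose_spec).trans (thetaPts_one σ hσ hf T))

instance group (T : Over S) : Group (Pts σ hσ hf T) :=
  Group.ofLeftAxioms
    (fun P Q R => theta_injective σ hσ hf T (show thetaPts σ hσ hf (P * Q * R) = thetaPts σ hσ hf (P * (Q * R)) by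
      rw [thetaPts_mul, thetaPts_mul, thetaPts_mul, thetaPts_mul, mul_assoc]))
    (fun P => theta_injective σ hσ hf T (show thetaPts σ hσ hf (1 * P) = thetaPts σ hσ hf P by
      rw [thetaPts_mul, thetaPts_one, one_mul]))
    (fun P => theta_injective σ hσ hf T (show thetaPts σ hσ hf (P⁻¹ * P) = thetaPts σ hσ hf 1 by
      rw [thetaPts_mul, thetaPts_inv, thetaPts_one, inv_mul_cancel]))

theorem rel_mul {T : Over S} (P Q : Pts σ hσ hf T) : RelT σ hσ hf (T := T) P Q (P * Q) :=
  (exists_mul σ hσ hf (T := T) P Q).choose_spec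

include σ hσ hf in
theorem RelT.comp {T T' : Over S} (g : T' ⟶ T) {P Q R : T ⟶ Over.mk f} (h : RelT σ hσ hf P Q R) :
    RelT σ hσ hf (g ≫ P) (g ≫ Q) (g ≫ R) := by
  obtain ⟨n, hn⟩ := h
  let b' : PicF.XT f T' ⟶ PicF.XT f T :=
    pullback.lift (pullback.fst f T'.hom) (pullback.snd f T'.hom ≫ g.left) (by
      rw [Category.assoc, Over.w g, pullback.condition])
  have hsq : IsPullback b' (PicF.XTproj f T') (PicF.XTproj f T) g.left :=
    IsPullback.of_right (by
      show IsPullback (b' ≫ pullback.fst f T.hom) (pullback.snd f T'.hom) f (g.left ≫ T.hom)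
      rw [show b' ≫ pullback.fst f T.hom = pullback.fst f T'.hom from pullback.lift_fst _ _ _, Over.w g]
      exact IsPullback.of_hasPullback f T'.hom) (pullback.lift_snd _ _ _) (IsPullback.of_hasPullback f T.hom)
  have hgr : ∀ X : T ⟶ Over.mk f, graph (g ≫ X) ≫ b' = g.left ≫ graph X := fun X => by
    refine pullback.hom_ext ?_ ?_
    · simp [b', graph]
    · simp [b', graph]
      exact Category.id_comp _
  have hsec : PicF.secT f σ hσ T' ≫ b' = g.left ≫ PicF.secT f σ hσ T := by
    refine pullback.hom_ext ?_ ?_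
    · simp [b', PicF.secT]
    · simp [b', PicF.secT]
      exact Category.id_comp _
  refine ⟨pull g.left n, ?_⟩
  have h1 := congrArg (pull b') hn
  rw [map_mul, map_mul, map_mul, pull_secCl (hypsT hf T) hsq _ _ (graph (g ≫ P)) (graph_snd _) (hgr P),
    pull_secCl (hypsT hf T) hsq _ _ (graph (g ≫ Q)) (graph_snd _) (hgr Q),
    pull_secCl (hypsT hf T) hsq _ _ (graph (g ≫ R)) (graph_snd _) (hgr R),
    pull_secCl (hypsT hf T) hsq _ _ (PicF.secT f σ hσ T') (pullback.lift_snd _ _ _) hsec,
    Cube.pull_comp, show b' ≫ PicF.XTproj f T = PicF.XTproj f T' ≫ g.left from pullback.lift_snd _ _ _,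
    ← Cube.pull_comp] at h1
  exact h1

/-- The presheaf of groups. -/
def functor : (Over S)ᵒᵖ ⥤ GrpCat.{u} where
  obj T := GrpCat.of (Pts σ hσ hf T.unop)
  map {T T'} g := GrpCat.ofHom (MonoidHom.mk'
    (fun P => (show Pts σ hσ hf T'.unop from g.unop ≫ (show T.unop ⟶ Over.mk f from P))) fun P Q =>
    RelT.unique σ hσ hf (RelT.comp σ hσ hf g.unop (rel_mul σ hσ hf P Q))
      (rel_mul σ hσ hf (T := T'.unop) _ _))
  map_id T := GrpCat.hom_ext (MonoidHom.ext fun P => (Category.id_comp (show T.unop ⟶ Over.mk f from P) :))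
  map_comp {T T' T''} g g' := GrpCat.hom_ext (MonoidHom.ext fun P =>
    (Category.assoc g'.unop g.unop (show T.unop ⟶ Over.mk f from P) :))

/-- The functor of points is represented by the curve. -/
def representableBy : (functor σ hσ hf ⋙ forget _).RepresentableBy (Over.mk f) where
  homEquiv := Equiv.refl _
  homEquiv_comp _ _ := rfl

/-- The group law. -/
@[implicit_reducible]
def grpObj : GrpObj (Over.mk f) := GrpObj.ofRepresentableBy _ (functor σ hσ hf) (representableBy σ hσ hf)

theorem relT_grp_mul {T : Over S} (P Q : T ⟶ Over.mk f) :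
    letI := grpObj σ hσ hf
    RelT σ hσ hf P Q (P * Q) := by
  letI := grpObj σ hσ hf
  have h : P * Q = (show Pts σ hσ hf T from P) * (show Pts σ hσ hf T from Q) :=
    ((yonedaGrpObjIsoOfRepresentableBy (Over.mk f) (functor σ hσ hf) (representableBy σ hσ hf)).hom.app
      (op T)).hom.map_mul P Q
  rw [h]
  exact rel_mul σ hσ hf P Q

theorem grp_mul_eq_iff {T : Over S} (P Q R : T ⟶ Over.mk f) :
    letI := grpObj σ hσ hf
    P * Q = R ↔ RelT σ hσ hf P Q R := by
  refine ⟨fun h => h ▸ relT_grp_mul σ hσ hf P Q, fun h => RelT.unique σ hσ hf (relT_grp_mul σ hσ hf P Q) h⟩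

end Points

end GrothLib.EllGroup15
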