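import Groth.Agent.Lib.EllGroup15.Group
import Groth.Agent.Lib.CurveMult.StableSeparated
import Groth.Agent.Lib.Rigidity.Relative.Hom
import Groth.Prelude.Def_Neron

/-!
# The group law of a curve of genus one with a point, over a field
-/

set_option autoImplicit false
set_option linter.all false
set_option backward.isDefEq.respectTransparency false
set_option maxHeartbeats 2000000

universe u

open CategoryTheory CategoryTheory.Limits AlgebraicGeometry Opposite
open CategoryTheory.MonoidalCategory CategoryTheory.CartesianMonoidalCategory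
open scoped MonObj
open GrothLib.Cube (Pic clsMod pull HasCls)

noncomputable section

namespace GrothLib.EllGroup15

open GrothLib.SmCurveFam

section General

variable {E S : Scheme.{u}} {f : E ⟶ S} (σ : S ⟶ E) (hσ : σ ≫ f = 𝟙 S) (hf : IsGenusOne f)

theorem RelT.symm {T : Over S} {P Q R : T ⟶ Over.mk f} (h : RelT σ hσ hf P Q R) : RelT σ hσ hf Q P R := by
  obtain ⟨n, hn⟩ := h
  exact ⟨n, by rw [mul_comm]; exact hn⟩

theorem relT_origin (T : Over S) :
    RelT σ hσ hf (origin σ hσ T) (origin σ hσ T) (origin σ hσ T) := by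
  refine ⟨1, ?_⟩
  rw [map_one, mul_one]
  rfl

theorem one_eq_origin (T : Over S) :
    letI := grpObj σ hσ hf
    (1 : T ⟶ Over.mk f) = origin σ hσ T := by
  letI := grpObj σ hσ hf
  exact (mul_eq_left.1 ((grp_mul_eq_iff σ hσ hf _ _ _).2 (relT_origin σ hσ hf T))).symm

include hσ hf in
theorem isCommMonObj : @IsCommMonObj _ _ _ _ (Over.mk f) (grpObj σ hσ hf).toMonObj := by
  letI := grpObj σ hσ hf
  refine ⟨?_⟩
  have h : (snd (Over.mk f) (Over.mk f)) * fst _ _ = fst _ _ * snd _ _ :=
    (grp_mul_eq_iff σ hσ hf _ _ _).2 (RelT.symm σ hσ hf (relT_grp_mul σ hσ hf _ _))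
  rw [Hom.mul_def, Hom.mul_def, lift_fst_snd, Category.id_comp] at h
  rw [← h]
  congr 1

include hf in
theorem exists_commGrpObj :
    ∃ G : GrpObj (Over.mk f), (∀ T, (letI := G; (1 : T ⟶ Over.mk f)) = origin σ hσ T) ∧
      @IsCommMonObj _ _ _ _ (Over.mk f) G.toMonObj :=
  ⟨grpObj σ hσ hf, fun T => one_eq_origin σ hσ hf T, isCommMonObj σ hσ hf⟩

end General

section Field

variable {K : Type u} [Field K] {E : Scheme.{u}} (f : E ⟶ Spec (CommRingCat.of K)) [Smooth f] [IsProper f]
  [GeometricallyConnected f]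

theorem isGenusOne_field (hdim : topologicalKrullDim E = 1)
    (hgenus : (letI : E.Over (Spec (CommRingCat.of K)) := ⟨f⟩;
      Module.finrank K (Coh.HH E (Coh.structureModule E) 1)) = 1) : IsGenusOne f := by
  have hconn : GeometricallyConnected f := inferInstance
  refine ⟨inferInstance, inferInstance, hconn, fun s => ?_, fun s => ?_⟩
  · haveI : Subsingleton ↥(Spec (CommRingCat.of K)) := inferInstanceAs (Subsingleton (PrimeSpectrum K))
    haveI : IsClosedImmersion ((Spec (CommRingCat.of K)).fromSpecResidueField s) := by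
      refine .of_isPreimmersion _ ?_
      rw [Scheme.range_fromSpecResidueField]
      exact isClosed_discrete _
    haveI : Surjective ((Spec (CommRingCat.of K)).fromSpecResidueField s) :=
      ⟨fun y => ⟨IsLocalRing.closedPoint _, Subsingleton.elim _ _⟩⟩
    haveI : IsIso ((Spec (CommRingCat.of K)).fromSpecResidueField s) := isIso_of_isClosedImmersion_of_surjective _
    haveI : IsIso (f.fiberι s) := (IsPullback.of_hasPullback f _).isIso_fst_of_isIso
    rw [← hdim]
    exact (f.fiberι s).homeomorph.isHomeomorph.topologicalKrullDim_eq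
  · haveI : Subsingleton ↥(Spec (CommRingCat.of K)) := inferInstanceAs (Subsingleton (PrimeSpectrum K))
    letI : E.Over (Spec (CommRingCat.of K)) := ⟨f⟩
    haveI : (Coh.structureModule E).IsQuasicoherent :=
      InvExt.isQuasicoherent_of_isInvertible Euler.isInvertible_structure
    have h := CurveMult.StableSeparated.fiberRank_point K (X := E) f (𝟙 _) (𝟙 E) (IsPullback.of_horiz_isIso ⟨by simp; rfl⟩)
      (Coh.structureModule E) 1
    obtain ⟨e⟩ := Ample.nonempty_pullback_structureModule (𝟙 E)
    rw [Subsingleton.elim s ((𝟙 (Spec (CommRingCat.of K))) (IsLocalRing.closedPoint K)), h,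
      (Euler.hhEquiv (A := K) e 1).finrank_eq]
    exact hgenus

end Field

theorem exists_commGrpObj_field (K : Type u) [Field K] (E : Over (Spec (CommRingCat.of K))) [Smooth E.hom]
    [IsProper E.hom] [GeometricallyIrreducible E.hom] (hdim : topologicalKrullDim E.left = 1)
    (hgenus : Module.finrank K (Coh.HH E.left (Coh.structureModule E.left) 1) = 1)
    (o : 𝟙_ (Over (Spec (CommRingCat.of K))) ⟶ E) :
    ∃ G : GrpObj E, @MonObj.one _ _ _ E G.toMonObj = o ∧ @IsCommMonObj _ _ _ _ E G.toMonObj := by
  haveI := Rigidity.geometricallyConnected_of_geometricallyIrreducible E.hom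
  obtain ⟨Ec, ⟨⟨⟩⟩, f⟩ := E
  have ho : o.left ≫ f = 𝟙 _ := Over.w o
  obtain ⟨G, h1, h2⟩ := exists_commGrpObj o.left ho (isGenusOne_field f hdim hgenus)
  refine ⟨G, ?_, h2⟩
  have h3 := h1 (𝟙_ _)
  rw [Hom.one_def, toUnit_unit, Category.id_comp] at h3
  rw [h3]
  ext
  exact Category.id_comp _

end GrothLib.EllGroup15
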