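import Groth.Agent.Lib.EllGroup15.AbelIso
import Groth.Agent.Lib.EllGroup15.OverField
import Groth.Agent.Lib.AbTors.Count
import Groth.Agent.Lib.SmCurveFam.VeryAmple
import Groth.Agent.Lib.Torsor21.SmoothSection
import Groth.Agent.Lib.CurveMult.HyperSep
import Groth.Agent.Lib.CurveMult.BaseChangeH
import Groth.Agent.Lib.BaseChange.Irred
import Groth.Prelude.Def_Curv2

/-!
# Torsion of the Picard group of a curve of genus one
-/

set_option autoImplicit false
set_option linter.all false
set_option backward.isDefEq.respectTransparency false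
set_option maxHeartbeats 2000000

universe u

open CategoryTheory CategoryTheory.Limits AlgebraicGeometry Opposite
open CategoryTheory.MonoidalCategory CategoryTheory.CartesianMonoidalCategory
open scoped MonObj
open GrothLib.Cube (Pic clsMod pull HasCls)

noncomputable section

namespace GrothLib.EllGroup15

open GrothLib.SmCurveFam

section Points

variable {E S : Scheme.{u}} {f : E ⟶ S} (σ : S ⟶ E) (hσ : σ ≫ f = 𝟙 S) (hf : IsGenusOne f)
  {T : Over S} {L : Type u} [Field L] (hT : T.left = Spec (CommRingCat.of L))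

include hT in
theorem pull_proj_eq_one (n : Pic T.left) : pull (PicF.XTproj f T) n = 1 := by
  have : ∀ (U : Scheme.{u}) (h : U = Spec (CommRingCat.of L)) (n : Pic U), n = 1 := by
    rintro U rfl n
    exact Cube.pic_spec_field_eq_one (F := CommRingCat.of L) n
  rw [this _ hT n, map_one]

include hT in
/-- `n`-torsion classes on the curve over a field are the `n`-torsion points. -/
theorem card_pic_tors {n : ℕ} (hn : n ≠ 0) :
    Nat.card {c : Pic (PicF.XT f T) // c ^ n = 1} =
      Nat.card {P : T ⟶ Over.mk f // (letI := grpObj σ hσ hf; P ^ n) = origin σ hσ T} := by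
  letI := grpObj σ hσ hf
  have hmul : ∀ P Q : T ⟶ Over.mk f, thetaRep σ hσ hf (P * Q) = thetaRep σ hσ hf P * thetaRep σ hσ hf Q := fun P Q => by
    have h := (theta_eq_iff σ hσ hf P Q (P * Q)).2 (relT_grp_mul σ hσ hf P Q)
    rw [theta, theta, theta, ← QuotientGroup.mk_mul, QuotientGroup.eq, MonoidHom.mem_range] at h
    obtain ⟨m, hm⟩ := h
    rw [pull_proj_eq_one hT m, eq_comm, inv_mul_eq_one] at hm
    exact hm.symm
  let θ : (T ⟶ Over.mk f) →* Pic (PicF.XT f T) := MonoidHom.mk' (fun P => thetaRep σ hσ hf P) hmul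
  have hinj : Function.Injective θ := fun P Q h => theta_injective σ hσ hf T (congrArg QuotientGroup.mk h)
  have hT' := hypsT hf T
  haveI := hT'.proper
  haveI := hT'.smooth
  haveI := hT'.conn
  have ho : PicF.secT f σ hσ T ≫ PicF.XTproj f T = 𝟙 _ := pullback.lift_snd _ _ _
  refine (Nat.card_congr (Equiv.ofBijective
    (fun P : {P : T ⟶ Over.mk f // P ^ n = origin σ hσ T} => (⟨θ P.1, by
      rw [← map_pow, P.2, ← one_eq_origin σ hσ hf T, map_one]⟩ : {c : Pic (PicF.XT f T) // c ^ n = 1}))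
    ⟨fun P Q h => Subtype.ext (hinj (congrArg Subtype.val h)), ?_⟩)).symm
  rintro ⟨c, hc⟩
  obtain ⟨hL, hLc⟩ := Dual.hasCls_rep c
  have hd : ∀ y, fdeg (PicF.XTproj f T) (Dual.rep c) y = 0 := fun y => by
    have key : ∀ (m : ℕ) {M : (PicF.XT f T).Modules} (hM : PicF.IsInvertible M), clsMod hM = c ^ m →
        fdeg (PicF.XTproj f T) M y = (m : ℤ) * fdeg (PicF.XTproj f T) (Dual.rep c) y := by
      intro m
      induction m with
      | zero =>
        intro M hM hMc
        rw [pow_zero] at hMc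
        have h0 := fdeg_mul hT' hM hM hM (by rw [hMc, one_mul]) y
        simp only [Nat.cast_zero, zero_mul]
        omega
      | succ m ih =>
        intro M hM hMc
        obtain ⟨hN, hNc⟩ := Dual.hasCls_rep (c ^ m)
        rw [fdeg_mul hT' hN hL hM (by rw [hMc, hNc, hLc, pow_succ]) y, ih hN hNc]
        push_cast
        ring
    obtain ⟨hO, hOc⟩ := Dual.hasCls_rep (c ^ n)
    have h1 := key n hO hOc
    rw [key 0 hO (by rw [hOc, hc, pow_zero]), Nat.cast_zero, zero_mul] at h1
    exact (mul_eq_zero.1 h1.symm).resolve_left (by exact_mod_cast hn)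
  obtain ⟨hO, hOc⟩ := Dual.hasCls_rep (secCl hT' _ ho)⁻¹
  have hL' := Ample.isInvertible_tensorMod hL hO
  have hd' : ∀ y, fdeg (PicF.XTproj f T) (CohB1.tensorMod (Dual.rep c) (Dual.rep (secCl hT' _ ho)⁻¹)) y = 1 :=
    fun y => by
      rw [fdeg_mul hT' hL hO hL' (Cube.clsMod_tensorMod hL hO) y, hd y, fdeg_inv_secCl hT' _ ho hO hOc y, zero_add]
  obtain ⟨x, hx, hIx, m, hm⟩ := exists_section_class (PicF.XTproj f T) hT'.dim hT'.genus _ ho hL' hd'
  obtain ⟨P, rfl⟩ := exists_point x hx
  rw [Cube.clsMod_tensorMod hL hO, hOc, hLc, pull_proj_eq_one hT m, mul_one, mul_inv_eq_iff_eq_mul] at hm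
  have hθ : θ P = c := by
    rw [hm]
    exact mul_comm _ _
  refine ⟨⟨P, hinj ?_⟩, Subtype.ext hθ⟩
  rw [map_pow, hθ, hc, ← one_eq_origin σ hσ hf T, map_one]

end Points

section Separable

variable {K : Type u} [Field K] (A : Over (Spec (CommRingCat.of K))) [GrpObj A] [IsCommMonObj A]
  [IsProper A.hom] [GeometricallyIntegral A.hom]

/-- The `n`-torsion points are all defined over one finite separable extension. -/
theorem exists_separable_card_torsPts {g : ℕ} (hg : topologicalKrullDim A.left = (g : WithBot ℕ∞)) {n : ℕ}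
    (hn : (n : K) ≠ 0) :
    ∃ (L : Type u) (_ : Field L) (_ : Algebra K L), FiniteDimensional K L ∧ Algebra.IsSeparable K L ∧
      Nat.card (AbDual.torsPts A n (Over.mk (Spec.map (CommRingCat.ofHom (algebraMap K L))))) = n ^ (2 * g) := by
  classical
  obtain ⟨hf, he, -⟩ := AbMul.isFinite_etale_surjective_pow A (n : ℤ) (by exact_mod_cast hn)
  rw [zpow_natCast] at hf he
  let Ω := AlgebraicClosure K
  let φ : K →+* Ω := algebraMap K Ω
  let Z := pullback ((𝟙 A : A ⟶ A) ^ n).left (η[A].left)
  let q : Z ⟶ Spec (CommRingCat.of K) := pullback.snd _ _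
  haveI : IsFinite q := MorphismProperty.pullback_snd (P := @IsFinite) _ _ hf
  haveI : Etale q := MorphismProperty.pullback_snd (P := @Etale) _ _ he
  haveI : IsAffine Z := isAffine_of_isAffineHom q
  let D := Γ(Z, ⊤)
  let ψ : CommRingCat.of K ⟶ D := Spec.preimage (Z.isoSpec.inv ≫ q)
  have hψ : Z.isoSpec.inv ≫ q = Spec.map ψ := (Spec.map_preimage _).symm
  haveI : Etale (Spec.map ψ) := by rw [← hψ]; infer_instance
  have het : ψ.hom.Etale := (HasRingHomProperty.Spec_iff (P := @Etale)).1 ‹Etale (Spec.map ψ)›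
  algebraize [ψ.hom]
  haveI : Module.Finite K D := Algebra.FormallyUnramified.finite_of_free K D
  have hsep : ∀ (h : D →ₐ[K] Ω) (d : D), IsSeparable K (h d) := fun h d => by
    haveI : Algebra.FormallyUnramified K h.range :=
      Algebra.FormallyUnramified.of_surjective h.rangeRestrict h.rangeRestrict_surjective
    haveI : Module.Finite K h.range := Module.Finite.of_surjective h.rangeRestrict.toLinearMap h.rangeRestrict_surjective
    haveI : IsDomain h.range := inferInstance
    letI : Field h.range := (Algebra.IsIntegral.isField_iff_isField (R := K) (S := h.range)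
      (algebraMap K h.range).injective).1 (Field.toIsField K) |>.toField
    haveI : Algebra.IsSeparable K h.range := Algebra.FormallyUnramified.isSeparable K _
    have h1 : IsSeparable K (⟨h d, ⟨d, rfl⟩⟩ : h.range) := Algebra.IsSeparable.isSeparable K _
    exact (show IsSeparable K (h.range.val ⟨h d, ⟨d, rfl⟩⟩) from by
      unfold IsSeparable at h1 ⊢
      rwa [minpoly.algHom_eq h.range.val Subtype.val_injective])
  obtain ⟨s, hs⟩ := (Module.finite_def (R := K) (M := D)).1 inferInstance
  haveI : Finite (D →ₐ[K] Ω) := inferInstance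
  let V : Set Ω := ⋃ h : D →ₐ[K] Ω, h '' (s : Set D)
  have hV : V.Finite := Set.finite_iUnion fun h => s.finite_toSet.image _
  haveI : Finite V := hV.to_subtype
  let L : IntermediateField K Ω := IntermediateField.adjoin K V
  have hint : ∀ x ∈ V, IsIntegral K x := fun x _ => Algebra.IsIntegral.isIntegral x
  haveI : FiniteDimensional K L := IntermediateField.finiteDimensional_adjoin hint
  haveI : Algebra.IsSeparable K L := (IntermediateField.isSeparable_adjoin_iff_isSeparable K Ω).2 (fun x hx => by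
    obtain ⟨h, d, -, rfl⟩ := Set.mem_iUnion.1 hx
    exact hsep h d)
  refine ⟨L, inferInstance, inferInstance, inferInstance, inferInstance, ?_⟩
  let σL := Spec.map (CommRingCat.ofHom (algebraMap K L))
  let σΩ := Spec.map (CommRingCat.ofHom φ)
  rw [← AbTors.card_torsPts A hg hn σΩ]
  let i : Over.mk σΩ ⟶ Over.mk σL := Over.homMk (Spec.map (CommRingCat.ofHom (algebraMap L Ω))) (by
    show Spec.map _ ≫ Spec.map _ = Spec.map _
    rw [← Spec.map_comp]
    rfl)
  let r : AbDual.torsPts A n (Over.mk σL) → AbDual.torsPts A n (Over.mk σΩ) := fun a => ⟨i ≫ a.1, by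
    rw [AbDual.mem_torsPts, ← MonObj.comp_pow, (AbDual.mem_torsPts A a.1).1 a.2, MonObj.comp_one]⟩
  refine Nat.card_congr (Equiv.ofBijective r ⟨fun a b hab => ?_, fun a => ?_⟩)
  · haveI : Flat i.left := by
      show Flat (Spec.map (CommRingCat.ofHom (algebraMap L Ω)))
      rw [HasRingHomProperty.Spec_iff (P := @Flat)]
      exact RingHom.flat_algebraMap_iff.mpr inferInstance
    haveI : Surjective i.left := by
      haveI : Subsingleton ↥(Over.mk σL).left := inferInstanceAs (Subsingleton (PrimeSpectrum L))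
      exact ⟨fun y => ⟨IsLocalRing.closedPoint Ω, Subsingleton.elim _ _⟩⟩
    haveI := Flat.epi_of_flat_of_surjective i.left
    exact Subtype.ext (Over.OverMorphism.ext ((cancel_epi i.left).1
      (congrArg CommaMorphism.left (congrArg Subtype.val hab))))
  · have h1 : a.1.left ≫ ((𝟙 A : A ⟶ A) ^ n).left = σΩ ≫ η[A].left := by
      rw [← Over.comp_left, AbTors.pow_comp_eq, (AbDual.mem_torsPts A a.1).1 a.2, Hom.one_def, Over.comp_left]
      rfl
    let z : Spec (CommRingCat.of Ω) ⟶ Z := pullback.lift a.1.left σΩ h1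
    have hz : z ≫ q = σΩ := pullback.lift_snd _ _ _
    let χ : D ⟶ CommRingCat.of Ω := Spec.preimage (z ≫ Z.isoSpec.hom)
    have hχ : ψ ≫ χ = CommRingCat.ofHom φ := by
      apply Spec.map_injective
      rw [Spec.map_comp, Spec.map_preimage, ← hψ, Category.assoc, Iso.hom_inv_id_assoc, hz]
    let h : D →ₐ[K] Ω :=
      { χ.hom with commutes' := fun c => congrArg (fun t : CommRingCat.of K ⟶ CommRingCat.of Ω => t.hom c) hχ }
    have hmem : ∀ d : D, h d ∈ L := by
      have : Submodule.span K (s : Set D) ≤ L.toSubmodule.comap h.toLinearMap := Submodule.span_le.2 fun d hd =>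
        IntermediateField.subset_adjoin K V (Set.mem_iUnion.2 ⟨h, d, hd, rfl⟩)
      exact fun d => this (hs ▸ Submodule.mem_top)
    let h₀ : D ⟶ CommRingCat.of L := CommRingCat.ofHom (χ.hom.codRestrict L hmem)
    let z₀ : Spec (CommRingCat.of L) ⟶ Z := Spec.map h₀ ≫ Z.isoSpec.inv
    have hz₀ : Spec.map (CommRingCat.ofHom (algebraMap L Ω)) ≫ z₀ = z := by
      show Spec.map _ ≫ Spec.map h₀ ≫ Z.isoSpec.inv = z
      rw [← Category.assoc, ← Spec.map_comp,
        show h₀ ≫ CommRingCat.ofHom (algebraMap L Ω) = χ from rfl, Spec.map_preimage, Category.assoc,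
        Iso.hom_inv_id, Category.comp_id]
    have hq₀ : z₀ ≫ q = σL := by
      show (Spec.map h₀ ≫ Z.isoSpec.inv) ≫ q = Spec.map _
      rw [Category.assoc, hψ, ← Spec.map_comp]
      refine congrArg Spec.map (CommRingCat.hom_ext (RingHom.ext fun c => Subtype.ext ?_))
      exact congrArg (fun t : CommRingCat.of K ⟶ CommRingCat.of Ω => t.hom c) hχ
    have hp : (z₀ ≫ pullback.fst _ _) ≫ A.hom = σL := by
      rw [Category.assoc, ← Over.w ((𝟙 A : A ⟶ A) ^ n), pullback.condition_assoc, ← Category.assoc]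
      refine (congrArg (· ≫ η[A].left ≫ A.hom) hq₀).trans ?_
      rw [Over.w η[A]]
      exact Category.comp_id _
    refine ⟨⟨Over.homMk (z₀ ≫ pullback.fst _ _) hp, ?_⟩, ?_⟩
    · rw [AbDual.mem_torsPts, ← AbTors.pow_comp_eq, Hom.one_def]
      ext1
      show (z₀ ≫ pullback.fst _ _) ≫ ((𝟙 A : A ⟶ A) ^ n).left = (toUnit (Over.mk σL)).left ≫ η[A].left
      rw [Category.assoc, pullback.condition, ← Category.assoc]
      exact congrArg (· ≫ η[A].left) hq₀
    · refine Subtype.ext (Over.OverMorphism.ext ?_)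
      show Spec.map _ ≫ z₀ ≫ pullback.fst _ _ = a.1.left
      rw [← Category.assoc, hz₀]
      exact pullback.lift_fst _ _ _

end Separable

section Result

theorem exists_full_pic_torsion (k : Type u) [Field k] (X : Scheme.{u}) [X.Over (Spec (CommRingCat.of k))]
    [IsIntegral X] [IsProper (X ↘ (Spec (CommRingCat.of k)))] [Smooth (X ↘ (Spec (CommRingCat.of k)))]
    (hdim : topologicalKrullDim X = 1)
    (h0 : Module.finrank k (Coh.HH X (Coh.structureModule X) 0) = 1) (hg : Curv2.genus k X = 1)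
    (n : ℕ) (hn : IsUnit (n : k)) :
    ∃ (k' : Type u) (_ : Field k') (_ : Algebra k k'), FiniteDimensional k k' ∧ Algebra.IsSeparable k k' ∧
      (∃ x : Spec (CommRingCat.of k') ⟶ Curv2.bc k X k', x ≫ Curv2.bcSnd k X k' = 𝟙 _) ∧
      Nat.card {c : PicF.Cl (Curv2.bc k X k') | ∃ M : Scheme.Modules (Curv2.bc k X k'), PicF.cl M = c ∧
        PicF.IsInvertible M ∧ Nonempty (CohB1.tensorPow M (n) ≅ Coh.structureModule (Curv2.bc k X k'))} = n ^ 2 := by
  let f := X ↘ Spec (CommRingCat.of k)
  haveI : GeometricallyConnected f := by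
    let K := AlgebraicClosure k
    letI : (Curv2.bc k X K).Over (Spec (CommRingCat.of K)) := ⟨Curv2.bcSnd k X K⟩
    haveI : ConnectedSpace ↥(Curv2.bc k X K) := by
      refine CurveMult.connectedSpace_of_finrank_H0 K ?_
      rw [CurveMult.finrank_HH_structure_baseChange (algebraMap k K) (Curv2.bcFst k X K)
        (IsPullback.of_hasPullback f (Spec.map (CommRingCat.ofHom (algebraMap k K)))) 0]
      exact h0
    exact BaseChange.geometricallyConnected_of_connected_bc k X K
  have hf := isGenusOne_field f hdim hg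
  obtain ⟨k₁, _, _, _, _, c, hc⟩ := Torsor21.exists_separable_point f
  let b₁ := Spec.map (CommRingCat.ofHom (algebraMap k k₁))
  let E₁ := pullback f b₁
  let f₁ : E₁ ⟶ Spec (CommRingCat.of k₁) := pullback.snd f b₁
  have hsq₁ : IsPullback (pullback.fst f b₁) f₁ f b₁ := IsPullback.of_hasPullback f b₁
  have hf₁ := hf.baseChange hsq₁
  let σ : Spec (CommRingCat.of k₁) ⟶ E₁ := pullback.lift c (𝟙 _) (by rw [hc, Category.id_comp])
  have hσ : σ ≫ f₁ = 𝟙 _ := pullback.lift_snd _ _ _
  let A : Over (Spec (CommRingCat.of k₁)) := Over.mk f₁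
  letI := grpObj σ hσ hf₁
  haveI : IsCommMonObj A := isCommMonObj σ hσ hf₁
  haveI : IsProper A.hom := hf₁.proper
  haveI : GeometricallyIntegral A.hom := by
    letI : E₁.Over (Spec (CommRingCat.of k₁)) := ⟨f₁⟩
    haveI : IsProper (E₁ ↘ Spec (CommRingCat.of k₁)) := hf₁.proper
    haveI : Smooth (E₁ ↘ Spec (CommRingCat.of k₁)) := hf₁.smooth
    haveI : GeometricallyConnected (E₁ ↘ Spec (CommRingCat.of k₁)) := hf₁.conn
    exact SmCurveFam.geometricallyIntegral k₁ (X := E₁)
  have hdimA : topologicalKrullDim A.left = ((1 : ℕ) : WithBot ℕ∞) := by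
    haveI : Subsingleton ↥(Spec (CommRingCat.of k₁)) := inferInstanceAs (Subsingleton (PrimeSpectrum k₁))
    let pt : Spec (CommRingCat.of k₁) := IsLocalRing.closedPoint k₁
    haveI : IsClosedImmersion ((Spec (CommRingCat.of k₁)).fromSpecResidueField pt) := by
      refine .of_isPreimmersion _ ?_
      rw [Scheme.range_fromSpecResidueField]
      exact isClosed_discrete _
    haveI : Surjective ((Spec (CommRingCat.of k₁)).fromSpecResidueField pt) :=
      ⟨fun y => ⟨IsLocalRing.closedPoint _, Subsingleton.elim _ _⟩⟩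
    haveI : IsIso ((Spec (CommRingCat.of k₁)).fromSpecResidueField pt) := isIso_of_isClosedImmersion_of_surjective _
    haveI : IsIso (f₁.fiberι pt) := (IsPullback.of_hasPullback f₁ _).isIso_fst_of_isIso
    rw [Nat.cast_one, ← hf₁.dim pt]
    exact ((f₁.fiberι pt).homeomorph.isHomeomorph.topologicalKrullDim_eq).symm
  have hn₁ : (n : k₁) ≠ 0 := by
    rw [← map_natCast (algebraMap k k₁)]
    exact (hn.map _).ne_zero
  obtain ⟨L, _, _, _, _, hcard⟩ := exists_separable_card_torsPts A hdimA hn₁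
  letI : Algebra k L := ((algebraMap k₁ L).comp (algebraMap k k₁)).toAlgebra
  haveI : IsScalarTower k k₁ L := IsScalarTower.of_algebraMap_eq fun _ => rfl
  haveI : FiniteDimensional k L := Module.Finite.trans k₁ L
  haveI : Algebra.IsSeparable k L := Algebra.IsSeparable.trans k k₁ L
  let b : Spec (CommRingCat.of L) ⟶ Spec (CommRingCat.of k₁) := Spec.map (CommRingCat.ofHom (algebraMap k₁ L))
  let T : Over (Spec (CommRingCat.of k₁)) := Over.mk b
  have hbb : b ≫ b₁ = Spec.map (CommRingCat.ofHom (algebraMap k L)) := by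
    show Spec.map _ ≫ Spec.map _ = _
    rw [← Spec.map_comp]
    rfl
  let e : Curv2.bc k X L ≅ PicF.XT f₁ T :=
    pullback.congrHom rfl hbb.symm ≪≫ (pullbackLeftPullbackSndIso f b₁ b).symm
  have he : e.hom ≫ pullback.snd f₁ b = Curv2.bcSnd k X L := by
    simp [e, Curv2.bcSnd, f₁]
    exact (pullback.lift_snd _ _ _).trans (Category.comp_id _)
  refine ⟨L, inferInstance, inferInstance, inferInstance, inferInstance, ⟨PicF.secT f₁ σ hσ T ≫ e.inv, ?_⟩, ?_⟩
  · rw [Category.assoc, ← he, e.inv_hom_id_assoc]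
    exact pullback.lift_snd _ _ _
  have hn0 : n ≠ 0 := by
    rintro rfl
    simp at hn
  have h1 := card_pic_tors σ hσ hf₁ (T := T) (L := L) rfl hn0
  have h2 : Nat.card {P : T ⟶ Over.mk f₁ // P ^ n = origin σ hσ T} = n ^ (2 * 1) := by
    rw [← hcard]
    exact Nat.card_congr (Equiv.subtypeEquivRight fun P => by
      rw [← one_eq_origin σ hσ hf₁ T]
      exact Iff.rfl)
  let Y := Curv2.bc k X L
  have hpinv : ∀ c : Pic (PicF.XT f₁ T), pull e.inv (pull e.hom c) = c := fun c => by
    rw [Cube.pull_comp, e.inv_hom_id, Cube.pull_id]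
  have hphom : ∀ c : Pic Y, pull e.hom (pull e.inv c) = c := fun c => by
    rw [Cube.pull_comp, e.hom_inv_id, Cube.pull_id]
  let E2 : {c : Pic Y // c ^ n = 1} ≃ {c : Pic (PicF.XT f₁ T) // c ^ n = 1} :=
    { toFun := fun c => ⟨pull e.inv c.1, by rw [← map_pow, c.2, map_one]⟩
      invFun := fun c => ⟨pull e.hom c.1, by rw [← map_pow, c.2, map_one]⟩
      left_inv := fun c => Subtype.ext (hphom c.1)
      right_inv := fun c => Subtype.ext (hpinv c.1) }
  rw [show (n : ℕ) ^ 2 = n ^ (2 * 1) by ring_nf, ← h2, ← h1, ← Nat.card_congr E2]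
  refine Nat.card_congr (Equiv.ofBijective
    (fun c : {c : Pic Y // c ^ n = 1} => (⟨PicF.cl (Dual.rep c.1), Dual.rep c.1, rfl, (Dual.hasCls_rep c.1).choose, by
      refine (Cube.clsMod_eq_one_iff (Ample.isInvertible_tensorPow (Dual.hasCls_rep c.1).choose n)).1 ?_
      exact (Cube.clsMod_tensorPow (Dual.hasCls_rep c.1).choose n).trans (by rw [(Dual.hasCls_rep c.1).choose_spec, c.2])⟩ :
        {c : PicF.Cl Y | ∃ M : Scheme.Modules Y, PicF.cl M = c ∧ PicF.IsInvertible M ∧
          Nonempty (CohB1.tensorPow M (n) ≅ Coh.structureModule Y)})) ⟨fun c c' h => ?_, ?_⟩).symm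
  · obtain ⟨i⟩ := PicSep26.cl_eq_iff.1 (congrArg Subtype.val h)
    refine Subtype.ext ?_
    rw [← (Dual.hasCls_rep c.1).choose_spec, ← (Dual.hasCls_rep c'.1).choose_spec]
    exact (Cube.clsMod_eq_iff _ _).2 ⟨i⟩
  · rintro ⟨_, M, rfl, hM, hi⟩
    refine ⟨⟨clsMod hM, ?_⟩, Subtype.ext (PicSep26.cl_eq_iff.2 ?_)⟩
    · rw [← Cube.clsMod_tensorPow hM]
      exact (Cube.clsMod_eq_one_iff _).2 hi
    · exact (Cube.clsMod_eq_iff (Dual.hasCls_rep (clsMod hM)).choose hM).1
        (Dual.hasCls_rep (clsMod hM)).choose_spec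

end Result

end GrothLib.EllGroup15
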