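import Groth.Agent.Lib.EllGroup15.Group

/-!
# The group law of a family of elliptic curves, in terms of modules
-/

set_option autoImplicit false
set_option linter.all false
set_option backward.isDefEq.respectTransparency false
set_option maxHeartbeats 2000000

universe u

open CategoryTheory CategoryTheory.Limits AlgebraicGeometry Opposite
open CategoryTheory.MonoidalCategory CategoryTheory.CartesianMonoidalCategory
open scoped MonObj
open GrothLib.Cube (Pic clsMod pull HasCls)

noncomputable section

namespace GrothLib.EllGroup15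

open GrothLib.SmCurveFam

variable {E S : Scheme.{u}} (f : E ⟶ S) [IsProper f] [SmoothOfRelativeDimension 1 f]

theorem isGenusOne_of_eulerChar (hc : GeometricallyConnected f)
    (hg : ∀ s : S, @FGA.eulerCharLE (S.residueField s) _ (f.fiber s) (f.fiberOverSpecResidueField s)
      (Coh.structureModule (f.fiber s)) 1 = 0) : IsGenusOne f := by
  haveI := hc
  haveI : Smooth f := SmoothOfRelativeDimension.smooth (n := 1) f
  refine ⟨inferInstance, inferInstance, hc, fun s => ?_, fun s => ?_⟩
  · obtain ⟨h1, h2, h3, -⟩ := fiber_props f s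
    letI : (f.fiber s).Over (Spec (CommRingCat.of (S.residueField s))) := ⟨f.fiberToSpecResidueField s⟩
    haveI : IsProper (f.fiber s ↘ Spec (CommRingCat.of (S.residueField s))) := h1
    haveI : Smooth (f.fiber s ↘ Spec (CommRingCat.of (S.residueField s))) := h2
    haveI : GeometricallyConnected (f.fiber s ↘ Spec (CommRingCat.of (S.residueField s))) := h3
    haveI := (CurveMult.OmegaField.integral_and_h0 (S.residueField s) (f.fiber s)).1
    haveI := smoothOfRelativeDimension_isStableUnderBaseChange (n := 1)
    haveI : SmoothOfRelativeDimension 1 (f.fiberToSpecResidueField s) :=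
      MorphismProperty.of_isPullback (P := @SmoothOfRelativeDimension 1)
        (IsPullback.of_hasPullback f (S.fromSpecResidueField s)) inferInstance
    exact_mod_cast CotTangent.topologicalKrullDim_integral_of_smoothOfRelativeDimension
      (f.fiberToSpecResidueField s) 1
  · have h := hg s
    have h0 : CohIII.fiberRank f (Coh.structureModule E) 0 s = 1 :=
      Seesaw26.fiberRank_eq_one f _ s (finrank_functions f s) ⟨PicLoc.pullbackStructureIso _⟩
    simp only [FGA.eulerCharLE, Finset.sum_range_succ, Finset.sum_range_zero] at h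
    rw [fiberRank_structure f 0 s] at h0
    rw [fiberRank_structure f 1 s]
    norm_num at h
    omega

variable {f} (σ : S ⟶ E) (hσ : σ ≫ f = 𝟙 S)

omit [IsProper f] [SmoothOfRelativeDimension 1 f] in
theorem relT_iff (hf : IsGenusOne f) {T : Over S} (P Q R : T ⟶ Over.mk f) :
    RelT σ hσ hf P Q R ↔ ∃ M : T.left.Modules, PicF.IsInvertible M ∧
        Nonempty (CohB1.tensorMod
            (ClSub.idealMod (graph P).ker) (ClSub.idealMod (graph Q).ker) ≅
          CohB1.tensorMod (CohB1.tensorMod
            (ClSub.idealMod (graph R).ker) (ClSub.idealMod (PicF.secT f σ hσ T).ker))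
            ((Scheme.Modules.pullback (PicF.XTproj f T)).obj M)) := by
  have hP := (hypsT hf T).isInvertible_ideal (graph P) (graph_snd P)
  have hQ := (hypsT hf T).isInvertible_ideal (graph Q) (graph_snd Q)
  have hR := (hypsT hf T).isInvertible_ideal (graph R) (graph_snd R)
  have hO := (hypsT hf T).isInvertible_ideal (PicF.secT f σ hσ T) (pullback.lift_snd _ _ _)
  constructor
  · rintro ⟨n, hn⟩
    obtain ⟨hM, hMc⟩ := Dual.hasCls_rep n
    refine ⟨Dual.rep n, hM, (Cube.clsMod_eq_iff (Ample.isInvertible_tensorMod hP hQ)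
      (Ample.isInvertible_tensorMod (Ample.isInvertible_tensorMod hR hO)
        (Ample.isInvertible_pullback (PicF.XTproj f T) hM))).1 ?_⟩
    rw [Cube.clsMod_tensorMod hP hQ, Cube.clsMod_tensorMod (Ample.isInvertible_tensorMod hR hO)
      (Ample.isInvertible_pullback (PicF.XTproj f T) hM), Cube.clsMod_tensorMod hR hO,
      Cube.clsMod_pullback _ hM, hMc]
    exact hn
  · rintro ⟨M, hM, hi⟩
    refine ⟨clsMod hM, ?_⟩
    have h := (Cube.clsMod_eq_iff (Ample.isInvertible_tensorMod hP hQ)
      (Ample.isInvertible_tensorMod (Ample.isInvertible_tensorMod hR hO)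
        (Ample.isInvertible_pullback (PicF.XTproj f T) hM))).2 hi
    rw [Cube.clsMod_tensorMod hP hQ, Cube.clsMod_tensorMod (Ample.isInvertible_tensorMod hR hO)
      (Ample.isInvertible_pullback (PicF.XTproj f T) hM), Cube.clsMod_tensorMod hR hO,
      Cube.clsMod_pullback _ hM] at h
    exact h

theorem existsUnique_grpObj (hc : GeometricallyConnected f)
    (hg : ∀ s : S, @FGA.eulerCharLE (S.residueField s) _ (f.fiber s) (f.fiberOverSpecResidueField s)
      (Coh.structureModule (f.fiber s)) 1 = 0) :
    ∃! g : GrpObj (Over.mk f), ∀ (T : Over S) (P Q R : T ⟶ Over.mk f),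
      P * Q = R ↔ ∃ M : T.left.Modules, PicF.IsInvertible M ∧
        Nonempty (CohB1.tensorMod
            (ClSub.idealMod (graph P).ker) (ClSub.idealMod (graph Q).ker) ≅
          CohB1.tensorMod (CohB1.tensorMod
            (ClSub.idealMod (graph R).ker) (ClSub.idealMod (PicF.secT f σ hσ T).ker))
            ((Scheme.Modules.pullback (PicF.XTproj f T)).obj M)) := by
  have hf := isGenusOne_of_eulerChar f hc hg
  refine ⟨grpObj σ hσ hf, fun T P Q R => (grp_mul_eq_iff σ hσ hf P Q R).trans (relT_iff σ hσ hf P Q R),
    fun g hgl => ?_⟩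
  have key : ∀ (g : GrpObj (Over.mk f)), (letI := g; (fst (Over.mk f) (Over.mk f)) * snd _ _) =
      g.toMonObj.mul := fun g => by
    letI := g
    show lift _ _ ≫ _ = _
    rw [lift_fst_snd, Category.id_comp]
  have h := (hgl _ (fst (Over.mk f) (Over.mk f)) (snd _ _) _).2
    ((relT_iff σ hσ hf _ _ _).1 ((grp_mul_eq_iff σ hσ hf (fst (Over.mk f) (Over.mk f)) (snd _ _) _).1 rfl))
  refine GrpObj.ext _ _ (MonObj.ext _ _ ?_)
  exact (key g).symm.trans (h.trans (key (grpObj σ hσ hf)))

end GrothLib.EllGroup15
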