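import Groth.Agent.Lib.SmCurveFam.Family
import Groth.Agent.Lib.RelDiv.Smooth
import Groth.Agent.Lib.EssFree.Proj
import Groth.Agent.Lib.EssFree.Over
import Groth.Prelude.Def_AgPol
import Groth.Prelude.Def_BlowUp2

/-!
# The locus where a relative divisor of a group curve is a subgroup
-/

set_option autoImplicit false
set_option linter.all false
set_option backward.isDefEq.respectTransparency false
set_option maxHeartbeats 2000000

universe u

open CategoryTheory CategoryTheory.Limits AlgebraicGeometry Opposite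
open CategoryTheory.MonoidalCategory CategoryTheory.CartesianMonoidalCategory
open scoped MonObj

noncomputable section

namespace GrothLib.EllGroup15

variable {S : Scheme.{u}} (E : Over S) [GrpObj E]

/-- The factorisations through a closed subscheme and through the subscheme of its ideal agree. -/
theorem exists_lift_ker_iff {Z : Scheme.{u}} (inc : Z ⟶ S) [IsClosedImmersion inc] {T : Scheme.{u}} (g : T ⟶ S) :
    (∃ t : T ⟶ inc.ker.subscheme, t ≫ inc.ker.subschemeι = g) ↔ ∃ z : T ⟶ Z, z ≫ inc = g := by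
  constructor
  · rintro ⟨t, rfl⟩
    exact ⟨IsClosedImmersion.lift inc (t ≫ inc.ker.subschemeι)
      ((inc.ker.ker_subschemeι).ge.trans (Scheme.Hom.le_ker_comp _ _)), IsClosedImmersion.lift_fac _ _ _⟩
  · rintro ⟨z, rfl⟩
    exact ⟨z ≫ inc.toImage, by rw [Category.assoc]; exact congrArg (z ≫ ·) inc.toImage_imageι⟩

/-- The locus where a finite locally free closed subscheme of a group scheme is a subgroup is closed. -/
theorem exists_subgroup_locus [IsSeparated E.hom] (𝓓 : E.left.IdealSheafData) [IsFinite (𝓓.subschemeι ≫ E.hom)]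
    [Flat (𝓓.subschemeι ≫ E.hom)] [LocallyOfFinitePresentation (𝓓.subschemeι ≫ E.hom)] :
    ∃ 𝓩 : S.IdealSheafData, ∀ (T : Scheme.{u}) (g : T ⟶ S),
      (∃ t : T ⟶ 𝓩.subscheme, t ≫ 𝓩.subschemeι = g) ↔
        ∀ (T' : Scheme.{u}) (a : T' ⟶ T), ∃ H : Subgroup (Over.mk (a ≫ g) ⟶ E),
          (H : Set (Over.mk (a ≫ g) ⟶ E)) =
            {x | ∃ d : T' ⟶ 𝓓.subscheme, d ≫ 𝓓.subschemeι = x.left} := by
  classical
  let p := 𝓓.subschemeι ≫ E.hom
  let G : Over S := Over.mk p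
  let inc : G ⟶ E := Over.homMk 𝓓.subschemeι rfl
  let m : G ⊗ G ⟶ E := (fst G G ≫ inc) * (snd G G ≫ inc)⁻¹
  let e := pullback.fst m.left 𝓓.subschemeι
  let P2 := (G ⊗ G).hom
  haveI hp1 : IsFinite (pullback.snd p p) := MorphismProperty.pullback_snd (P := @IsFinite) _ _ ‹IsFinite p›
  haveI hp2 : Flat (pullback.snd p p) := MorphismProperty.pullback_snd (P := @Flat) _ _ ‹Flat p›
  haveI hp3 : LocallyOfFinitePresentation (pullback.snd p p) :=
    MorphismProperty.pullback_snd (P := @LocallyOfFinitePresentation) _ _ ‹LocallyOfFinitePresentation p›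
  have hP2 : P2 = pullback.snd p p ≫ p := by
    show pullback.fst p p ≫ p = _
    exact pullback.condition
  haveI : IsFinite P2 := by rw [hP2]; infer_instance
  haveI : Flat P2 := by rw [hP2]; infer_instance
  haveI : LocallyOfFinitePresentation P2 := by rw [hP2]; infer_instance
  obtain ⟨Z, j, hj, hZ⟩ := EssFree.exists_closed_locus P2 e (EssFree.projCover_finLocFree P2)
  haveI := hj
  haveI : IsClosedImmersion η[E].left := by
    haveI : IsClosedImmersion (η[E].left ≫ E.hom) := by rw [Over.w η[E]]; exact inferInstanceAs (IsClosedImmersion (𝟙 S))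
    exact IsClosedImmersion.of_comp _ E.hom
  let j₁ : pullback η[E].left 𝓓.subschemeι ⟶ S := pullback.fst _ _
  let J := pullback.fst j j₁ ≫ j
  refine ⟨J.ker, fun T g => ?_⟩
  rw [exists_lift_ker_iff J g]
  have hone : ∀ {T' : Scheme.{u}} (b : T' ⟶ S), (1 : Over.mk b ⟶ E).left = b ≫ η[E].left := fun b => by
    rw [Hom.one_def, Over.comp_left]
    rfl
  constructor
  · rintro ⟨z, hz⟩ T' a
    have hg1 : ∃ w, w ≫ j = g := ⟨z ≫ pullback.fst _ _, (Category.assoc _ _ _).trans hz⟩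
    obtain ⟨l, hl⟩ := EssFree.factorsThrough_comp P2 e a g ((hZ g).1 hg1)
    have hone' : ∃ d : T' ⟶ 𝓓.subscheme, d ≫ 𝓓.subschemeι = (1 : Over.mk (a ≫ g) ⟶ E).left := by
      refine ⟨a ≫ z ≫ pullback.snd j j₁ ≫ pullback.snd η[E].left 𝓓.subschemeι, ?_⟩
      rw [hone, ← hz]
      simp only [J, Category.assoc]
      rw [pullback.condition_assoc, ← pullback.condition]
    have hdiv : ∀ x y : Over.mk (a ≫ g) ⟶ E, (∃ d : T' ⟶ 𝓓.subscheme, d ≫ 𝓓.subschemeι = x.left) →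
        (∃ d : T' ⟶ 𝓓.subscheme, d ≫ 𝓓.subschemeι = y.left) →
        ∃ d : T' ⟶ 𝓓.subscheme, d ≫ 𝓓.subschemeι = (x * y⁻¹).left := by
      rintro x y ⟨dx, hdx⟩ ⟨dy, hdy⟩
      let x' : Over.mk (a ≫ g) ⟶ G := Over.homMk dx (by
        show dx ≫ 𝓓.subschemeι ≫ E.hom = a ≫ g
        rw [← Category.assoc, hdx]; exact Over.w x)
      let y' : Over.mk (a ≫ g) ⟶ G := Over.homMk dy (by
        show dy ≫ 𝓓.subschemeι ≫ E.hom = a ≫ g
        rw [← Category.assoc, hdy]; exact Over.w y)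
      have hx : x' ≫ inc = x := Over.OverMorphism.ext hdx
      have hy : y' ≫ inc = y := Over.OverMorphism.ext hdy
      let q : Over.mk (a ≫ g) ⟶ G ⊗ G := CartesianMonoidalCategory.lift x' y'
      have hm : q ≫ m = x * y⁻¹ := by
        rw [MonObj.comp_mul, GrpObj.comp_inv, lift_fst_assoc, lift_snd_assoc, hx, hy]
      let s : T' ⟶ pullback P2 (a ≫ g) := pullback.lift q.left (𝟙 T') ((Over.w q).trans (Category.id_comp _).symm)
      refine ⟨s ≫ l ≫ pullback.snd m.left 𝓓.subschemeι, ?_⟩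
      rw [← hm, Over.comp_left, Category.assoc, Category.assoc, ← pullback.condition]
      rw [show l ≫ pullback.fst m.left 𝓓.subschemeι ≫ m.left = (l ≫ e) ≫ m.left from (Category.assoc _ _ _).symm, hl,
        ← Category.assoc, pullback.lift_fst]
    refine ⟨Subgroup.ofDiv {x | ∃ d : T' ⟶ 𝓓.subscheme, d ≫ 𝓓.subschemeι = x.left} ⟨1, hone'⟩
      (fun x hx y hy => hdiv x y hx hy), rfl⟩
  · intro h
    obtain ⟨H, hH⟩ := h T (𝟙 T)
    obtain ⟨d₁, hd₁⟩ : (1 : Over.mk (𝟙 T ≫ g) ⟶ E) ∈ {x : Over.mk (𝟙 T ≫ g) ⟶ E |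
        ∃ d : T ⟶ 𝓓.subscheme, d ≫ 𝓓.subschemeι = x.left} := hH ▸ H.one_mem
    rw [hone, Category.id_comp] at hd₁
    let z₁ : T ⟶ pullback η[E].left 𝓓.subschemeι := pullback.lift g d₁ hd₁.symm
    let T' := pullback P2 g
    let b := pullback.snd P2 g
    obtain ⟨H', hH'⟩ := h T' b
    let q : Over.mk (b ≫ g) ⟶ G ⊗ G := Over.homMk (pullback.fst P2 g) pullback.condition
    let x := q ≫ fst G G ≫ inc
    let y := q ≫ snd G G ≫ inc
    have hx : x ∈ {x : Over.mk (b ≫ g) ⟶ E | ∃ d : T' ⟶ 𝓓.subscheme, d ≫ 𝓓.subschemeι = x.left} :=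
      ⟨(q ≫ fst G G).left, rfl⟩
    have hy : y ∈ {x : Over.mk (b ≫ g) ⟶ E | ∃ d : T' ⟶ 𝓓.subscheme, d ≫ 𝓓.subschemeι = x.left} :=
      ⟨(q ≫ snd G G).left, rfl⟩
    rw [← hH'] at hx hy
    obtain ⟨d, hd⟩ : x * y⁻¹ ∈ {x : Over.mk (b ≫ g) ⟶ E | ∃ d : T' ⟶ 𝓓.subscheme, d ≫ 𝓓.subschemeι = x.left} :=
      hH' ▸ H'.mul_mem hx (H'.inv_mem hy)
    have hxy : x * y⁻¹ = q ≫ m := by rw [MonObj.comp_mul, GrpObj.comp_inv]
    rw [hxy] at hd
    obtain ⟨z₀, hz₀⟩ := (hZ g).2 ⟨pullback.lift (pullback.fst P2 g) d hd.symm, pullback.lift_fst _ _ _⟩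
    have hcomp : z₀ ≫ j = z₁ ≫ j₁ := hz₀.trans (pullback.lift_fst _ _ _).symm
    refine ⟨pullback.lift z₀ z₁ hcomp, ?_⟩
    show pullback.lift z₀ z₁ hcomp ≫ pullback.fst j j₁ ≫ j = g
    rw [pullback.lift_fst_assoc, hz₀]

theorem exists_subgroup_locus_curve (hE : AgPol.IsAbSch E 1)
    (𝓓 : E.left.IdealSheafData) (hD : _root_.BlowUp.IsEffCartierIdeal 𝓓) [Flat (𝓓.subschemeι ≫ E.hom)] :
    ∃ 𝓩 : S.IdealSheafData, ∀ (T : Scheme.{u}) (g : T ⟶ S),
      (∃ t : T ⟶ 𝓩.subscheme, t ≫ 𝓩.subschemeι = g) ↔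
        ∀ (T' : Scheme.{u}) (a : T' ⟶ T), ∃ H : Subgroup (Over.mk (a ≫ g) ⟶ E),
          (H : Set (Over.mk (a ≫ g) ⟶ E)) =
            {x | ∃ d : T' ⟶ 𝓓.subscheme, d ≫ 𝓓.subschemeι = x.left} := by
  haveI := hE.smooth
  haveI := hE.proper
  haveI := hE.geomConnected
  haveI := SmCurveFam.smoothOfRelativeDimension_one E.hom (fun s => by rw [hE.fibreDim s]; rfl)
  haveI := RelDiv.locallyOfFinitePresentation_of_isEffCartier E.hom hD
  haveI := RelDiv.locallyQuasiFinite_of_isEffCartier E.hom hD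
  haveI : IsProper (𝓓.subschemeι ≫ E.hom) := inferInstance
  haveI : IsFinite (𝓓.subschemeι ≫ E.hom) := IsFinite.of_isProper_of_locallyQuasiFinite _
  exact exists_subgroup_locus E 𝓓

end GrothLib.EllGroup15
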